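import Groth.Agent.Lib.VarDim.Normal
import Groth.Agent.Lib.RegLoc.UFD
import Mathlib.AlgebraicGeometry.FunctionField
import Mathlib.AlgebraicGeometry.Stalk
import Mathlib.AlgebraicGeometry.Morphisms.Preimmersion

/-!
# Sections of the structure sheaf across points of codimension two
-/

set_option autoImplicit false
set_option linter.style.haveILetI false
set_option maxHeartbeats 800000

universe u

open CategoryTheory AlgebraicGeometry TopologicalSpace Opposite IsLocalRing

namespace Groth.Agent.NumConn10

variable {X : Scheme.{u}} [IsIntegral X]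

theorem algebraMap_stalkSpecializes {x ξ : X} (h : ξ ⤳ x) (r : X.presheaf.stalk x) :
    algebraMap (X.presheaf.stalk ξ) X.functionField (X.presheaf.stalkSpecializes h r) =
      algebraMap (X.presheaf.stalk x) X.functionField r := by
  change (X.presheaf.stalkSpecializes _).hom (X.presheaf.stalkSpecializes h r) =
    (X.presheaf.stalkSpecializes _).hom r
  rw [← CommRingCat.comp_apply, TopCat.Presheaf.stalkSpecializes_comp]

/-- A function regular off points of codimension two on a regular scheme is regular. -/
theorem exists_extend_codim_two (hreg : ∀ x : X, IsRegularLocalRing (X.presheaf.stalk x)) (U W : X.Opens)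
    [Nonempty U] [Nonempty W] (hUW : U ≤ W) (hgen : ∀ z ∈ W, z ∉ U → ∀ ξ : X, ξ ⤳ z → ξ ≠ z → ξ ∈ U)
    (hcodim : ∀ z ∈ W, z ∉ U → ¬ ringKrullDim (X.presheaf.stalk z) ≤ 1) (g : Γ(X, U)) :
    ∃ a : Γ(X, W), X.presheaf.map (homOfLE hUW).op a = g := by
  let K := X.germToFunctionField U g
  obtain ⟨a, ha⟩ := VarDim.exists_section_of_forall_stalk W K fun z hz => by
    by_cases hzU : z ∈ U
    · exact ⟨_, VarDim.germ_functionField_eq U z hzU g⟩
    haveI := hreg z
    haveI := RegLoc.isDomain (X.presheaf.stalk z)
    haveI := RegLoc.ufd_of_isRegularLocalRing (X.presheaf.stalk z)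
    obtain ⟨a, b, hab, hK⟩ := IsFractionRing.exists_reduced_fraction (A := X.presheaf.stalk z)
      (K := X.functionField) K
    have hspec : K * algebraMap (X.presheaf.stalk z) X.functionField (b : X.presheaf.stalk z) =
        algebraMap (X.presheaf.stalk z) X.functionField a := by
      rw [← hK]; exact IsLocalization.mk'_spec X.functionField a b
    have hb0 : algebraMap (X.presheaf.stalk z) X.functionField (b : X.presheaf.stalk z) ≠ 0 :=
      IsFractionRing.to_map_ne_zero_of_mem_nonZeroDivisors b.2
    by_cases hb : IsUnit (b : X.presheaf.stalk z)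
    · obtain ⟨v, hv⟩ := hb.exists_right_inv
      refine ⟨a * v, ?_⟩
      rw [map_mul, ← hspec, mul_assoc, ← map_mul, hv, map_one, mul_one]
    exfalso
    obtain ⟨π, hπirr, hπb⟩ := WfDvdMonoid.exists_irreducible_factor hb (nonZeroDivisors.ne_zero b.2)
    have hπ : Prime π := UniqueFactorizationMonoid.irreducible_iff_prime.1 hπirr
    haveI hP : (Ideal.span {π}).IsPrime := (Ideal.span_singleton_prime hπ.ne_zero).2 hπ
    let p : Spec (X.presheaf.stalk z) := ⟨Ideal.span {π}, hP⟩
    let ξ : X := X.fromSpecStalk z p
    have hξz : ξ ⤳ z := by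
      have h : ξ ∈ Set.range (X.fromSpecStalk z) := ⟨p, rfl⟩
      rwa [Scheme.range_fromSpecStalk] at h
    have hinj : Function.Injective (X.fromSpecStalk z) :=
      (X.fromSpecStalk z).isEmbedding.injective
    have hne : ξ ≠ z := fun he => hcodim z hz hzU (by
      have hp : p = closedPoint (X.presheaf.stalk z) := hinj (he.trans Scheme.fromSpecStalk_closedPoint.symm)
      have hm : Ideal.span {π} = maximalIdeal (X.presheaf.stalk z) := congrArg PrimeSpectrum.asIdeal hp
      rw [← IsRegularLocalRing.spanFinrank_maximalIdeal (R := X.presheaf.stalk z), ← hm]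
      exact_mod_cast (Submodule.spanFinrank_span_le_ncard_of_finite (Set.finite_singleton π)).trans
        (Set.ncard_singleton π).le)
    let sp := X.presheaf.stalkSpecializes hξz
    have hq : Spec.map sp (closedPoint (X.presheaf.stalk ξ)) = p := hinj (by
      have h := congrArg (fun φ : Spec (X.presheaf.stalk ξ) ⟶ X => φ (closedPoint (X.presheaf.stalk ξ)))
        (Scheme.SpecMap_stalkSpecializes_fromSpecStalk hξz)
      exact h.trans Scheme.fromSpecStalk_closedPoint)
    have hmem : ∀ r, sp r ∈ maximalIdeal (X.presheaf.stalk ξ) ↔ π ∣ r := fun r => by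
      rw [← Ideal.mem_span_singleton, show Ideal.span {π} = p.asIdeal from rfl, ← hq]
      rfl
    have hξU := hgen z hz hzU ξ hξz hne
    have hc := VarDim.germ_functionField_eq U ξ hξU g
    have heq : sp a = X.presheaf.germ U ξ hξU g * sp (b : X.presheaf.stalk z) := by
      refine IsFractionRing.injective (X.presheaf.stalk ξ) X.functionField ?_
      rw [map_mul, hc, algebraMap_stalkSpecializes, algebraMap_stalkSpecializes]
      exact hspec.symm
    refine hπ.not_isUnit (hab ((hmem a).1 ?_) hπb)
    rw [heq]
    exact Ideal.mul_mem_left _ _ ((hmem _).2 hπb)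
  refine ⟨a, X.germToFunctionField_injective U ?_⟩
  refine Eq.trans ?_ (rfl : K = _)
  rw [← ha]
  exact TopCat.Presheaf.germ_res_apply X.presheaf _ _ _ _

end Groth.Agent.NumConn10
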