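import Groth.Agent.Lib.Goodman10.Main
import Groth.Agent.Lib.ArInter.Form
import Groth.Agent.Lib.NumConn10.Hartogs
import Groth.Agent.Lib.SurfRR10.Curves

/-!
# Negative definiteness of a connected configuration of curves on which a function vanishes
-/

set_option autoImplicit false
set_option linter.style.haveILetI false
set_option linter.unusedSectionVars false
set_option maxHeartbeats 1000000
set_option backward.isDefEq.respectTransparency false
set_option backward.isDefEq.respectTransparency.types false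

universe u

open CategoryTheory CategoryTheory.Limits AlgebraicGeometry TopologicalSpace Opposite

noncomputable section

namespace Groth.Agent.NumConn10

open Groth.Agent.SymSq10 (sdot)
open Groth.Agent.Goodman10 (Good cl' cS)

noncomputable local instance instLawContraction (Y : Scheme.{u}) : PicGrp.Law Y := M2.law Y

variable {k : Type u} [Field k] {X : Scheme.{u}} [X.Over (Spec (CommRingCat.of k))]
  [IsProper (X ↘ Spec (CommRingCat.of k))] [IsIntegral X]
  (hreg : ∀ x : X, IsRegularLocalRing (X.presheaf.stalk x))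
  (hd : topologicalKrullDim X = ((2 : ℕ) : WithBot ℕ∞))
include k hreg hd

/-- A class with a section vanishing nowhere on a curve has degree zero on it. -/
theorem sdot_eq_zero_of_genLocus {η : X} (hη : topologicalKrullDim (closure ({η} : Set X)) = 1)
    {L : X.Modules} (hL : PicF.IsInvertible L) (φ : Coh.structureModule X ⟶ L)
    (hall : ∀ x, η ⤳ x → x ∈ CohB1.genLocus L φ) :
    sdot k (cl' (k := k) hreg hd η) (PicGrp.cls L hL) = 0 := by
  obtain ⟨hInt, -⟩ := NumPoly18.isIntegral_pt η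
  haveI := hInt
  let ι := (NumPoly18.ptIdeal η).subschemeι
  letI : (NumPoly18.ptIdeal η).subscheme.Over (Spec (CommRingCat.of k)) := ⟨ι ≫ (X ↘ (Spec (CommRingCat.of k)))⟩
  let ψ := (Twist.pullbackUnitIso ι).symm.hom ≫ (Scheme.Modules.pullback ι).map φ
  have hψ : CohB1.genLocus _ ψ = ι ⁻¹ᵁ CohB1.genLocus L φ := Amp.genLocus_pullback ι hL φ _
  have htop : CohB1.genLocus _ ψ = ⊤ := by
    rw [hψ]
    refine top_le_iff.1 fun y _ => hall (ι y) ?_
    have h : ι y ∈ Set.range ι := ⟨y, rfl⟩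
    rw [NumPoly18.range_ptι] at h
    exact specializes_iff_mem_closure.2 h
  haveI := CurveAmple18.isIso_of_genLocus_eq_top (Twist.isInvertible_pullback ι hL) ψ htop
  have h1 := Goodman10.cdeg_eq_sdot (k := k) hreg hd hη hL
  rw [show ClSub.quotMod (NumPoly18.ptIdeal η) =
    (Scheme.Modules.pushforward ι).obj (Coh.structureModule (NumPoly18.ptIdeal η).subscheme) from rfl] at h1
  rw [Goodman10.cl'_eq (k := k) hreg hd hη]
  have h2 : Curv2.deg k (NumPoly18.ptIdeal η).subscheme ((Scheme.Modules.pullback ι).obj L) 1 = 0 := by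
    rw [Curv2.deg, ← CurveCoh17.euler_iso (asIso ψ)]
    simp
  have h3 : (sdot k (Goodman10.ncl (k := k) hreg hd hη) (PicGrp.cls L hL) : ℚ) = 0 := by
    rw [← h1, NumPoly18.cdeg_push ι rfl hL, h2]
    simp
  exact_mod_cast h3

/-- Split off the curves of a configuration from a section. -/
theorem exists_peel_conf {H : X.Modules} (hH : CohB1.IsAmple H)
    (hpos : ∀ η : X, topologicalKrullDim (closure ({η} : Set X)) = 1 →
      0 < sdot k (cl' (k := k) hreg hd η) (PicGrp.cls H hH.1))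
    (hnn : ∀ (c : PicLoc.PicSet X) (A : X → Prop), Good c A → A (genericPoint X) →
      0 ≤ sdot k c (PicGrp.cls H hH.1))
    {r : ℕ} (ξ : Fin r → X) (hξ : ∀ i, topologicalKrullDim (closure ({ξ i} : Set X)) = 1) :
    ∀ (N : ℕ) (c : PicLoc.PicSet X) (A : X → Prop), Good c A → A (genericPoint X) →
      sdot k c (PicGrp.cls H hH.1) ≤ N →
      ∃ (a : Fin r → ℕ) (A' : X → Prop), Good (c * (∏ i, cl' (k := k) hreg hd (ξ i) ^ a i)⁻¹) A' ∧
        (∀ i, A' (ξ i)) ∧ ∀ x, A x ↔ A' x ∧ ∀ i, 0 < a i → ¬ ξ i ⤳ x := by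
  classical
  intro N
  induction N using Nat.strong_induction_on with
  | _ N ih =>
    intro c A hA hgen hN
    by_cases hall : ∀ i, A (ξ i)
    · exact ⟨0, A, by simpa using hA, hall, fun x => by simp⟩
    push Not at hall
    obtain ⟨i, hi⟩ := hall
    obtain ⟨L, hL, φ, hc, hφ⟩ := hA
    have hI := Goodman10.isEffCartier_pt (k := k) hreg hd (hξ i)
    have hIi := M2.isInvertible_idealMod _ hI
    obtain ⟨t, ht⟩ := Goodman10.exists_lift_of_vanish hL ⟨closure {ξ i}, isClosed_closure⟩ φ (fun x hx hxg =>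
      hi ((hφ _).1 ((specializes_iff_mem_closure.2 hx).mem_open (CohB1.genLocus L φ).isOpen hxg)))
    let J := NumPoly18.ptIdeal (ξ i)
    have hiff : ∀ x, A x ↔ x ∈ CohB1.genLocus _ (M1.secHom t) ∧ ¬ ξ i ⤳ x := fun x => by
      rw [← hφ, Goodman10.genLocus_lift hL hI φ t ht x, Scheme.IdealSheafData.coe_support_vanishingIdeal,
        specializes_iff_mem_closure]
      rfl
    have hA1 : Good (c * (cl' (k := k) hreg hd (ξ i))⁻¹) fun x => x ∈ CohB1.genLocus _ (M1.secHom t) := by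
      refine ⟨_, M2.isInvertible_tensor hIi hL, M1.secHom t, ?_, fun x => Iff.rfl⟩
      rw [← AlgEquiv22.cls_tensor hIi hL, hc, Goodman10.cl'_eq (k := k) hreg hd (hξ i), Goodman10.ncl, inv_inv,
        mul_comm]
    have hgen1 := ((hiff _).1 hgen).1
    have hdec : sdot k (c * (cl' (k := k) hreg hd (ξ i))⁻¹) (PicGrp.cls H hH.1) =
        sdot k c (PicGrp.cls H hH.1) - sdot k (cl' (k := k) hreg hd (ξ i)) (PicGrp.cls H hH.1) := by
      have h := SymSq10.sdot_mul (k := k) hd.le (c * (cl' (k := k) hreg hd (ξ i))⁻¹) (cl' (k := k) hreg hd (ξ i))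
        (PicGrp.cls H hH.1)
      rw [inv_mul_cancel_right] at h
      omega
    have h0 := hnn _ _ hA1 hgen1
    have hp := hpos (ξ i) (hξ i)
    obtain ⟨a, A', hG, hA', hsplit⟩ := ih (N - 1) (by omega) _ _ hA1 hgen1 (by rw [hdec]; omega)
    refine ⟨fun j => a j + if j = i then 1 else 0, A', ?_, hA', fun x => ?_⟩
    · convert hG using 1
      rw [mul_assoc, ← mul_inv]
      congr 2
      simp only [pow_add, Finset.prod_mul_distrib, pow_ite, pow_one, pow_zero, Finset.prod_ite_eq',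
        Finset.mem_univ, if_true]
      rw [mul_comm]
    · rw [hiff x, hsplit x]
      constructor
      · rintro ⟨⟨h1, h2⟩, h3⟩
        refine ⟨h1, fun j hj => ?_⟩
        by_cases hji : j = i
        · subst hji; exact h3
        · simp only [hji, if_false, add_zero] at hj
          exact h2 j hj
      · rintro ⟨h1, h2⟩
        exact ⟨⟨h1, fun j hj => h2 j (lt_of_lt_of_le hj (Nat.le_add_right _ _))⟩, h2 i (by simp)⟩

/-- A section vanishing exactly on the configuration near it, with a further zero curve through it, makes the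
configuration negative definite. -/
theorem negDef_of_good {H : X.Modules} (hH : CohB1.IsAmple H)
    (hpos : ∀ η : X, topologicalKrullDim (closure ({η} : Set X)) = 1 →
      0 < sdot k (cl' (k := k) hreg hd η) (PicGrp.cls H hH.1))
    (hnn : ∀ (c : PicLoc.PicSet X) (A : X → Prop), Good c A → A (genericPoint X) →
      0 ≤ sdot k c (PicGrp.cls H hH.1))
    {r : ℕ} (ξ : Fin r → X) (hξ : ∀ i, topologicalKrullDim (closure ({ξ i} : Set X)) = 1)
    (hinj : Function.Injective ξ) (hconn : _root_.IsConnected (⋃ i, closure ({ξ i} : Set X)))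
    (c : PicLoc.PicSet X) (hc : ∀ i, sdot k (cl' (k := k) hreg hd (ξ i)) c = 0)
    (A : X → Prop) (hA : Good c A) (hgen : A (genericPoint X)) (hE : ∀ i, ¬ A (ξ i))
    (i₀ : Fin r) (z η : X) (hzi : ξ i₀ ⤳ z) (hηz : η ⤳ z) (hηE : ∀ i, ¬ ξ i ⤳ η) (hηA : ¬ A η)
    (x : Fin r → ℤ) (hx : x ≠ 0) :
    ∑ p, ∑ q, x p * x q * sdot k (cl' (k := k) hreg hd (ξ p)) (cl' (k := k) hreg hd (ξ q)) < 0 := by
  classical
  obtain ⟨a, A', hG, hA', hsplit⟩ := exists_peel_conf (k := k) hreg hd hH hpos hnn ξ hξ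
    (sdot k c (PicGrp.cls H hH.1)).toNat c A hA hgen (Int.self_le_toNat _)
  have hne : ∀ p q, p ≠ q → ¬ ξ p ⤳ ξ q := fun p q hpq h =>
    hpq (hinj (Goodman10.eq_of_spec (k := k) hd (hξ p) (hξ q) h))
  have ha : ∀ i, 0 < a i := fun i => by
    by_contra h
    refine hE i ((hsplit _).2 ⟨hA' i, fun j hj hji => ?_⟩)
    by_cases hij : j = i
    · subst hij; omega
    · exact hne j i hij hji
  let G : Fin r → Fin r → ℤ := fun q p => sdot k (cl' (k := k) hreg hd (ξ q)) (cl' (k := k) hreg hd (ξ p))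
  obtain ⟨L', hL', φ', hc', hφ'⟩ := hG
  have hrow : ∀ p, sdot k (cl' (k := k) hreg hd (ξ p)) (PicGrp.cls L' hL') = - ∑ q, (a q : ℤ) * G q p := fun p => by
    rw [hc', SymSq10.sdot_comm, SymSq10.sdot_mul (k := k) hd.le, SymSq10.sdot_comm, hc p, zero_add]
    have h := SymSq10.sdot_mul (k := k) hd.le (∏ i, cl' (k := k) hreg hd (ξ i) ^ a i)
      (∏ i, cl' (k := k) hreg hd (ξ i) ^ a i)⁻¹ (cl' (k := k) hreg hd (ξ p))
    rw [mul_inv_cancel, SymSq10.sdot_one_left, SymSq10.sdot_comm (a := ∏ i, cl' (k := k) hreg hd (ξ i) ^ a i),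
      Goodman10.sdot_prod (k := k) hreg hd] at h
    have he : ∑ q, (a q : ℤ) * G q p = ∑ q, (a q : ℤ) * sdot k (cl' (k := k) hreg hd (ξ p)) (cl' (k := k) hreg hd (ξ q)) :=
      Finset.sum_congr rfl fun q _ => by simp only [G, SymSq10.sdot_comm (a := cl' (k := k) hreg hd (ξ p))]
    rw [he]
    omega
  have hsec : ∀ p, 0 ≤ sdot k (cl' (k := k) hreg hd (ξ p)) (PicGrp.cls L' hL') ∧
      (sdot k (cl' (k := k) hreg hd (ξ p)) (PicGrp.cls L' hL') = 0 → ∀ y, ξ p ⤳ y → A' y) := fun p => by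
    have h := Goodman10.sdot_of_section (k := k) hreg hd (hξ p) hL' φ' ((hφ' _).2 (hA' p))
    rw [Goodman10.cl'_eq (k := k) hreg hd (hξ p)]
    exact ⟨h.1, fun h0 y hy => (hφ' y).1 (h.2 h0 y hy)⟩
  have hstrict : sdot k (cl' (k := k) hreg hd (ξ i₀)) (PicGrp.cls L' hL') ≠ 0 := fun h0 => by
    refine hηA ((hsplit η).2 ⟨(hφ' η).1 ?_, fun j _ => hηE j⟩)
    exact hηz.mem_open (CohB1.genLocus L' φ').isOpen ((hφ' z).2 ((hsec i₀).2 h0 z hzi))
  let N : Fin r → Fin r → ℚ := fun q p => (G q p : ℚ)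
  let w : Fin r → ℚ := fun p => (a p : ℚ)
  have hw : ∀ p, 0 < w p := fun p => Nat.cast_pos.2 (ha p)
  have hcurve : ∀ p q, p ≠ q → 0 ≤ G q p ∧ ((∃ y, ξ q ⤳ y ∧ ξ p ⤳ y) → 0 < G q p) := fun p q h =>
    Goodman10.sdot_curve_nonneg (k := k) hreg hd (hξ q) (hξ p) fun e => h (hinj e)
  have hoff : ∀ p q, p ≠ q → 0 ≤ N q p := fun p q h => Int.cast_nonneg (hcurve p q h).1
  have hsymm : ∀ p q, N p q = N q p := fun p q => by simp only [N, G, SymSq10.sdot_comm]
  have hR : ∀ p, ∑ q, w q * N q p = - (sdot k (cl' (k := k) hreg hd (ξ p)) (PicGrp.cls L' hL') : ℚ) := fun p => by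
    have h := congrArg (fun m : ℤ => (m : ℚ)) (hrow p)
    push_cast at h
    show ∑ q, (a q : ℚ) * (G q p : ℚ) = _
    linarith
  let y : Fin r → ℚ := fun p => (x p : ℚ) / w p
  have hid := ArInter.form_identity N w hsymm y
  have hxy : ∀ p, w p * y p = (x p : ℚ) := fun p => mul_div_cancel₀ _ (hw p).ne'
  simp only [hxy] at hid
  have h1 : ∀ p, w p * y p ^ 2 * (∑ q, w q * N q p) ≤ 0 := fun p =>
    mul_nonpos_of_nonneg_of_nonpos (mul_nonneg (hw p).le (sq_nonneg _)) (by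
      rw [hR]; exact neg_nonpos.2 (Int.cast_nonneg (hsec p).1))
  have h2 := fun p q => ArInter.term_nonneg N w hw hoff y p q
  by_contra hcon
  rw [not_lt] at hcon
  have hge : (0 : ℚ) ≤ ∑ p, ∑ q, (x p : ℚ) * (x q : ℚ) * N q p := by
    refine le_of_le_of_eq (Int.cast_nonneg (R := ℚ) hcon) ?_
    push_cast
    exact Finset.sum_congr rfl fun p _ => Finset.sum_congr rfl fun q _ => by rw [hsymm q p]
  have hA' := Finset.sum_nonpos (s := Finset.univ) fun p _ => h1 p
  have hB' := Finset.sum_nonneg (s := Finset.univ) fun p _ => Finset.sum_nonneg (s := Finset.univ) fun q _ => h2 p q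
  have hA0 := (Finset.sum_eq_zero_iff_of_nonpos fun p _ => h1 p).1
    (by linarith : ∑ p, w p * y p ^ 2 * (∑ q, w q * N q p) = 0)
  have hB0 := (Finset.sum_eq_zero_iff_of_nonneg fun p _ => Finset.sum_nonneg fun q _ => h2 p q).1
    (by linarith : ∑ p, ∑ q, w p * w q * N q p * (y p - y q) ^ 2 = 0)
  have hy0 : y i₀ = 0 := by
    have h := hA0 i₀ (Finset.mem_univ _)
    rw [hR] at h
    rcases mul_eq_zero.1 h with h' | h'
    · exact (pow_eq_zero_iff two_ne_zero).1 ((mul_eq_zero.1 h').resolve_left (hw i₀).ne')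
    · exact absurd (Int.cast_eq_zero.1 (neg_eq_zero.1 h')) hstrict
  let S : Set (Fin r) := {p | y p ≠ 0}
  have hdisj : ∀ p ∈ S, ∀ q, q ∉ S → ∀ v, ξ q ⤳ v → ξ p ⤳ v → False := fun p hp q hq v hqv hpv => by
    have hne' : p ≠ q := fun e => hq (e ▸ hp)
    have hq0 : y q = 0 := not_not.1 hq
    have h := (Finset.sum_eq_zero_iff_of_nonneg fun q _ => h2 p q).1 (hB0 p (Finset.mem_univ p)) q (Finset.mem_univ q)
    rw [hq0, sub_zero] at h
    have hN : (0 : ℚ) < N q p := Int.cast_pos.2 ((hcurve p q hne').2 ⟨v, hqv, hpv⟩)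
    exact absurd h (mul_pos (mul_pos (mul_pos (hw p) (hw q)) hN) (pow_two_pos_of_ne_zero hp)).ne'
  obtain ⟨p₀, hp₀⟩ : ∃ p, x p ≠ 0 := Function.ne_iff.1 hx
  have hp₀S : p₀ ∈ S := div_ne_zero (Int.cast_ne_zero.2 hp₀) (hw p₀).ne'
  have hi₀S : i₀ ∉ S := fun h => h hy0
  have hcl : ∀ T : Set (Fin r), IsClosed (⋃ p ∈ T, closure ({ξ p} : Set X)) := fun T =>
    (Set.toFinite T).isClosed_biUnion fun p _ => isClosed_closure
  have hcov : (⋃ i, closure ({ξ i} : Set X)) ⊆
      (⋃ p ∈ S, closure ({ξ p} : Set X)) ∪ ⋃ p ∈ Sᶜ, closure ({ξ p} : Set X) := by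
    intro v hv
    obtain ⟨p, hp⟩ := Set.mem_iUnion.1 hv
    by_cases hpS : p ∈ S
    · exact Or.inl (Set.mem_biUnion hpS hp)
    · exact Or.inr (Set.mem_biUnion hpS hp)
  obtain ⟨v, -, hv1, hv2⟩ := isPreconnected_closed_iff.1 hconn.isPreconnected _ _ (hcl S) (hcl Sᶜ) hcov
    ⟨ξ p₀, Set.mem_iUnion.2 ⟨p₀, subset_closure rfl⟩, Set.mem_biUnion hp₀S (subset_closure rfl)⟩
    ⟨ξ i₀, Set.mem_iUnion.2 ⟨i₀, subset_closure rfl⟩, Set.mem_biUnion (show i₀ ∈ Sᶜ from hi₀S) (subset_closure rfl)⟩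
  obtain ⟨p, hp, hpv⟩ := Set.mem_iUnion₂.1 hv1
  obtain ⟨q, hq, hqv⟩ := Set.mem_iUnion₂.1 hv2
  exact hdisj p hp q hq v (specializes_iff_mem_closure.2 hqv) (specializes_iff_mem_closure.2 hpv)

/-- Configurations along which a function on an open neighbourhood vanishes. -/
theorem negDef_of_function {H : X.Modules} (hH : CohB1.IsAmple H)
    (hpos : ∀ η : X, topologicalKrullDim (closure ({η} : Set X)) = 1 →
      0 < sdot k (cl' (k := k) hreg hd η) (PicGrp.cls H hH.1))
    (hnn : ∀ (c : PicLoc.PicSet X) (A : X → Prop), Good c A → A (genericPoint X) →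
      0 ≤ sdot k c (PicGrp.cls H hH.1))
    {r : ℕ} (ξ : Fin r → X) (hξ : ∀ i, topologicalKrullDim (closure ({ξ i} : Set X)) = 1)
    (hinj : Function.Injective ξ) (hconn : _root_.IsConnected (⋃ i, closure ({ξ i} : Set X)))
    (U : X.Opens) (hEU : (⋃ i, closure ({ξ i} : Set X)) ⊆ U) (g : Γ(X, U)) (hg : g ≠ 0)
    (hgE : ∀ i, ξ i ∉ X.basicOpen g) (i₀ : Fin r) (z η : X) (hzi : ξ i₀ ⤳ z) (hηz : η ⤳ z)
    (hηE : ∀ i, ¬ ξ i ⤳ η) (hgη : η ∉ X.basicOpen g)
    (x : Fin r → ℤ) (hx : x ≠ 0) :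
    ∑ p, ∑ q, x p * x q * sdot k (cl' (k := k) hreg hd (ξ p)) (cl' (k := k) hreg hd (ξ q)) < 0 := by
  classical
  let f := X ↘ Spec (CommRingCat.of k)
  haveI : IsNoetherian X := CohFound.isNoetherian_of_isProper f
  have hzE : z ∈ (U : Set X) := hEU (Set.mem_iUnion.2 ⟨i₀, specializes_iff_mem_closure.1 hzi⟩)
  haveI : Nonempty U := ⟨⟨z, hzE⟩⟩
  have hgenU : genericPoint X ∈ U :=
    ((genericPoint_spec X).mem_open_set_iff U.isOpen).2 ⟨z, trivial, hzE⟩
  -- dimensions of points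
  have hdim : ∀ v : X, ringKrullDim (X.presheaf.stalk v) + (VarDim.sdim f v : WithBot ℕ∞) = (2 : ℕ) :=
    fun v => NumPoly18.ringKrullDim_stalk_of_sdim (k := k) hd v
  have hgen2 : VarDim.sdim f (genericPoint X) ≤ 2 := by
    have h := hdim (genericPoint X)
    have h0 : (0 : WithBot ℕ∞) ≤ ringKrullDim (X.presheaf.stalk (genericPoint X)) := ringKrullDim_nonneg_of_nontrivial
    have h' := (le_add_of_nonneg_left h0).trans h.le
    exact_mod_cast h'
  have hle : ∀ v : X, v ∉ U → VarDim.sdim f v ≤ 1 := fun v hv => by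
    have := VarDim.sdim_lt_of_specializes f (genericPoint_specializes v) (fun e => hv (e ▸ hgenU))
    omega
  obtain ⟨G, hG⟩ := VarDim.exists_finite_generic (X := X) U.isOpen.isClosed_compl
  let S := G.filter fun v => v ∉ U ∧ VarDim.sdim f v = 1
  have hS1 : ∀ v ∈ S, topologicalKrullDim (closure ({v} : Set X)) = 1 := fun v hv => by
    rw [VarDim.dim_closure_singleton f, (Finset.mem_filter.1 hv).2.2]; rfl
  have hmemS : ∀ v, v ∉ U → VarDim.sdim f v = 1 → v ∈ S := fun v hv h1 => by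
    obtain ⟨w, hwG, hwv⟩ := (hG v).1 hv
    have hw : w ∉ U := (hG w).2 ⟨w, hwG, specializes_rfl⟩
    by_cases e : w = v
    · subst e; exact Finset.mem_filter.2 ⟨hwG, hv, h1⟩
    · have := VarDim.sdim_lt_of_specializes f hwv e
      have := hle w hw
      omega
  obtain ⟨L, hL, σ, hq, hσ⟩ := Goodman10.good_cS (k := k) hreg hd S hS1 (fun _ => 1)
  let W := CohB1.genLocus L σ
  have hW : ∀ v, v ∈ W ↔ ∀ w ∈ S, ¬ w ⤳ v := fun v => (hσ v).trans (by simp)
  have hUW : U ≤ W := fun v hv => (hW v).2 fun w hw hwv => (Finset.mem_filter.1 hw).2.1 (hwv.mem_open U.isOpen hv)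
  haveI : Nonempty W := ⟨⟨z, hUW hzE⟩⟩
  have hnotS : ∀ v ∈ W, v ∉ U → VarDim.sdim f v = 0 := fun v hv hvU => by
    have h1 := hle v hvU
    by_contra h
    exact (hW v).1 hv v (hmemS v hvU (by omega)) specializes_rfl
  obtain ⟨a, ha⟩ := exists_extend_codim_two hreg U W hUW (fun v hv hvU w hwv hne => by
      by_contra hw
      have h1 := VarDim.sdim_lt_of_specializes f hwv hne
      have h2 := hle w hw
      exact (hW v).1 hv w (hmemS w hw (by omega)) hwv) (fun v hv hvU hle1 => by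
      have h := hdim v
      rw [hnotS v hv hvU, Nat.cast_zero, add_zero] at h
      rw [h] at hle1
      exact absurd hle1 (by norm_num)) g
  have hab : ∀ v ∈ U, v ∈ X.basicOpen g ↔ v ∈ X.basicOpen a := fun v hv => by
    rw [← ha, Scheme.basicOpen_res]
    exact ⟨fun h => h.2, fun h => ⟨hv, h⟩⟩
  haveI : Coh.IsQCoh (Coh.structureModule X) := M1.isQCoh_structureModule X
  obtain ⟨n₀, hn₀⟩ := Amp.exists_extend_genLocus hL σ (Coh.structureModule X) (show Γ(Coh.structureModule X, W) from a)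
  obtain ⟨t, ht⟩ := hn₀ (n₀ + 1) n₀.le_succ
  let L' := CohB1.tensorMod (Coh.structureModule X) (CohB1.tensorPow L (n₀ + 1))
  have hpw := Amp.isInvertible_tensorPow hL (n₀ + 1)
  have hO := PicLoc.isInvertible_structureModule X
  have hL' : PicF.IsInvertible L' := M2.isInvertible_tensor hO hpw
  have hA : Good ((cS (k := k) hreg hd S fun _ => 1) ^ (n₀ + 1)) fun v => v ∈ CohB1.genLocus L' (M1.secHom t) := by
    refine ⟨L', hL', _, ?_, fun v => Iff.rfl⟩
    rw [← AlgEquiv22.cls_tensor hO hpw, PicGrp.cls_structureModule_eq_one, one_mul, ← hq]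
    exact HypSq10.cls_pow_eq hL _
  have hiff : ∀ v ∈ U, v ∈ CohB1.genLocus L' (M1.secHom t) ↔ v ∈ X.basicOpen g := fun v hv => by
    have hvW := hUW hv
    have hgσ : Amp.Gen (Amp.gm L v hvW (M2.res L le_top (Amp.gval σ))) := by
      rw [Amp.gm_res]; exact (Amp.mem_genLocus_iff hL σ).1 hvW
    have e : Amp.gm L' v (U := ⊤) trivial t = Amp.gm L' v hvW (M2.res _ (le_top : W ≤ ⊤) t) :=
      (Amp.gm_res (M := L') (le_top : W ≤ ⊤) hvW t).symm
    let sA : Γ(Coh.structureModule X, W) := a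
    let aW : Γ(X, W) := a
    have hmul : sA = aW • M1.one W := (mul_one aW).symm
    have hone : Amp.Gen (Amp.gm (Coh.structureModule X) v hvW (M1.one W)) := Amp.gen_one v hvW
    have hga : Amp.Gen (Amp.gm (Coh.structureModule X) v hvW sA) ↔ v ∈ X.basicOpen aW := by
      rw [hmul, Amp.gm_smul, Amp.gen_smul_iff hO, Scheme.mem_basicOpen _ _ _ hvW]
      exact ⟨fun h => h.1, fun h => ⟨h, hone⟩⟩
    rw [Amp.mem_genLocus_iff hL', Amp.gval_secHom, e, ht, Amp.gen_tsec_iff hO hpw, hab v hv]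
    exact ⟨fun h => hga.1 h.1, fun h => ⟨hga.2 h, (Amp.gen_pw_succ hL hvW _ n₀).2 hgσ⟩⟩
  refine negDef_of_good (k := k) hreg hd hH hpos hnn ξ hξ hinj hconn _ (fun i => ?_) _ hA ?_ (fun i => ?_) i₀ z η
    hzi hηz hηE ?_ x hx
  · rw [SymSq10.sdot_comm, Goodman10.sdot_pow_left (k := k) hreg hd, SymSq10.sdot_comm, ← hq,
      sdot_eq_zero_of_genLocus (k := k) hreg hd (hξ i) hL σ (fun v hv => hUW (hEU (Set.mem_iUnion.2
        ⟨i, specializes_iff_mem_closure.1 hv⟩))), mul_zero]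
  · refine (hiff _ hgenU).2 ?_
    refine ((genericPoint_spec X).mem_open_set_iff (X.basicOpen g).isOpen).2 ?_
    obtain ⟨v, hv⟩ : ((X.basicOpen g : X.Opens) : Set X).Nonempty := by
      rw [Set.nonempty_iff_ne_empty]
      intro h
      exact hg ((basicOpen_eq_bot_iff g).1 (Opens.ext h))
    exact ⟨v, trivial, hv⟩
  · rw [hiff _ (hEU (Set.mem_iUnion.2 ⟨i, subset_closure rfl⟩))]
    exact hgE i
  · rw [hiff _ (hηz.mem_open U.isOpen hzE)]
    exact hgη

end Groth.Agent.NumConn10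

end
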