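import Groth.Agent.Lib.NumConn10.Main
import Groth.Agent.Lib.NumConn10.Contraction

/-!
# Divisors as combinations of curves and Zariski's semidefiniteness
-/

set_option autoImplicit false
set_option linter.style.haveILetI false
set_option linter.unusedSectionVars false
set_option maxHeartbeats 1000000
set_option backward.isDefEq.respectTransparency false
set_option backward.isDefEq.respectTransparency.types false

universe u

open CategoryTheory CategoryTheory.Limits AlgebraicGeometry TopologicalSpace Opposite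

noncomputable section

namespace Groth.Agent.NumConn10

open Groth.Agent.NumPoly18 (ptIdeal)
open Groth.Agent.SymSq10 (sdot)
open Groth.Agent.Goodman10 (cl')

noncomputable local instance instLawFibre (Y : Scheme.{u}) : PicGrp.Law Y := M2.law Y

section Combinatorics

variable {T : Type*} [Fintype T]

/-- Zariski's lemma: a connected form with a positive null vector is semidefinite with one dimensional radical. -/
theorem eq_smul_of_form_nonneg (N : T → T → ℚ) (w : T → ℚ) (hw : ∀ p, 0 < w p)
    (hoff : ∀ p q, p ≠ q → 0 ≤ N q p) (hsymm : ∀ p q, N p q = N q p) (hrow : ∀ p, ∑ q, w q * N q p = 0)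
    (hconn : ∀ S : Set T, S.Nonempty → Sᶜ.Nonempty → ∃ p ∈ S, ∃ q ∉ S, N q p ≠ 0)
    (x : T → ℚ) (hge : 0 ≤ ∑ p, ∑ q, x p * x q * N q p) (p₀ : T) (p : T) :
    x p = x p₀ / w p₀ * w p := by
  let y : T → ℚ := fun p => x p / w p
  have hxy : ∀ p, w p * y p = x p := fun p => mul_div_cancel₀ _ (hw p).ne'
  have hid := ArInter.form_identity N w hsymm y
  simp only [hxy, hrow, mul_zero, Finset.sum_const_zero] at hid
  have h2 := fun p q => ArInter.term_nonneg N w hw hoff y p q
  have h0 : ∑ p, ∑ q, w p * w q * N q p * (y p - y q) ^ 2 = 0 :=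
    le_antisymm (by linarith) (Finset.sum_nonneg fun p _ => Finset.sum_nonneg fun q _ => h2 p q)
  by_contra hne
  have hp : y p ≠ y p₀ := fun h => hne (by rw [← hxy p, h, mul_comm])
  obtain ⟨a, ha, b, hb, hN⟩ := hconn {q | y q = y p₀} ⟨p₀, rfl⟩ ⟨p, hp⟩
  have h := (Finset.sum_eq_zero_iff_of_nonneg fun q _ => h2 a q).1
    ((Finset.sum_eq_zero_iff_of_nonneg fun a _ => Finset.sum_nonneg fun q _ => h2 a q).1 h0 a (Finset.mem_univ a))
    b (Finset.mem_univ b)
  rcases mul_eq_zero.1 h with h' | h'
  · exact hN ((mul_eq_zero.1 h').resolve_left (mul_ne_zero (hw a).ne' (hw b).ne'))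
  · exact hb ((sub_eq_zero.1 ((pow_eq_zero_iff two_ne_zero).1 h')).symm.trans ha)

end Combinatorics

variable {k : Type u} [Field k] [IsAlgClosed k] {X : Scheme.{u}} [X.Over (Spec (CommRingCat.of k))]
  [IsProper (X ↘ Spec (CommRingCat.of k))] [Smooth (X ↘ Spec (CommRingCat.of k))] [IsIntegral X]
  (hdim : topologicalKrullDim X = 2)
include k hdim

/-- The class of a curve, one at the other points. -/
abbrev ccl (η : X) : PicLoc.PicSet X := cl' (k := k) (SurfRR10.regular (k := k)) (SurfRR10.dim_eq (k := k) hdim) η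

theorem icl_pt' {ξ : X} (hξ : topologicalKrullDim (closure ({ξ} : Set X)) = 1) :
    icl (cartier_pt (k := k) hdim hξ) = (ccl (k := k) hdim ξ)⁻¹ := by
  rw [icl_pt (k := k) hdim hξ, ccl, Goodman10.cl'_eq (k := k) _ _ hξ]

/-- An effective divisor is a combination of curves. -/
theorem exists_multiset : ∀ (K : X.IdealSheafData), BlowUp.IsEffCartierIdeal K →
    ∃ s : Multiset X, (∀ η ∈ s, topologicalKrullDim (closure ({η} : Set X)) = 1) ∧
      K = (s.map ptIdeal).prod ∧
      (∀ hK : BlowUp.IsEffCartierIdeal K, icl hK = ((s.map (ccl (k := k) hdim)).prod)⁻¹) ∧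
      ∀ x, x ∈ (K.support : Set X) ↔ ∃ η ∈ s, η ⤳ x := by
  haveI : IsNoetherian X := CohFound.isNoetherian_of_isProper (X ↘ Spec (CommRingCat.of k))
  haveI := SecDiv.wellFoundedGT (X := X)
  intro K
  induction K using (wellFounded_gt (α := X.IdealSheafData)).induction with
  | _ K ih =>
    intro hK
    by_cases hne : K = ⊤
    · subst hne
      refine ⟨0, by simp, by simp [Scheme.IdealSheafData.one_eq_top], fun h => ?_, fun x => ?_⟩
      · rw [icl_top h rfl]; simp
      · simp
    · obtain ⟨ξ, hξ, hle⟩ := exists_curve_le (k := k) hdim hK hne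
      obtain ⟨K', r, hK', hmul, hKK', -, -⟩ := exists_split hK (cartier_pt (k := k) hdim hξ) hle
      obtain ⟨s, hs, hprod, hcl, hsupp⟩ := ih K' (lt_of_split (k := k) hdim hξ hK hK' hmul hKK') hK'
      refine ⟨ξ ::ₘ s, fun η hη => ?_, ?_, fun h => ?_, fun x => ?_⟩
      · rcases Multiset.mem_cons.1 hη with rfl | h
        · exact hξ
        · exact hs η h
      · rw [Multiset.map_cons, Multiset.prod_cons, ← hprod, mul_comm, hmul]
      · rw [icl_congr h (by rw [hmul]; exact hK) hmul.symm,
          icl_mul hK' (cartier_pt (k := k) hdim hξ) (by rw [hmul]; exact hK), hcl hK', icl_pt' (k := k) hdim hξ,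
          Multiset.map_cons, Multiset.prod_cons, mul_inv_rev]
      · rw [← hmul, Scheme.IdealSheafData.support_mul]
        show x ∈ (K'.support : Set X) ∨ x ∈ ((ptIdeal ξ).support : Set X) ↔ _
        rw [hsupp x, Scheme.IdealSheafData.coe_support_vanishingIdeal]
        simp only [Multiset.mem_cons, exists_eq_or_imp, specializes_iff_mem_closure]
        exact or_comm

/-- The class of a power of an ideal. -/
theorem icl_pow {K : X.IdealSheafData} (hK : BlowUp.IsEffCartierIdeal K) :
    ∀ (n : ℕ) (h : BlowUp.IsEffCartierIdeal (K ^ n)), icl h = icl hK ^ n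
  | 0, h => by rw [icl_top h (by rw [pow_zero]; rfl), pow_zero]
  | n + 1, h => by
    have hn : BlowUp.IsEffCartierIdeal (K ^ n) := by
      rw [pow_succ] at h
      exact EffCartier.isEffCartierIdeal_of_mul_left h
    rw [icl_congr h (by rw [← pow_succ]; exact h) (pow_succ K n),
      icl_mul hn hK (by rw [← pow_succ]; exact h), icl_pow hK n hn, pow_succ]

/-- A class pulled back from a scheme on which the curve maps to a point has degree zero on it. -/
theorem sdot_pullback_eq_zero {B : Scheme.{u}} (f : X ⟶ B) {N : B.Modules} (hN : PicF.IsInvertible N) {η : X}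
    (hη : topologicalKrullDim (closure ({η} : Set X)) = 1) (p : B) (hp : ∀ x, η ⤳ x → f x = p) :
    sdot k (ccl (k := k) hdim η) (PicGrp.cls _ (Twist.isInvertible_pullback f hN)) = 0 := by
  obtain ⟨hInt, -⟩ := NumPoly18.isIntegral_pt η
  haveI := hInt
  let ι := (ptIdeal η).subschemeι
  letI : (ptIdeal η).subscheme.Over (Spec (CommRingCat.of k)) := ⟨ι ≫ (X ↘ (Spec (CommRingCat.of k)))⟩
  obtain ⟨V, e, hpV, -, -, he⟩ := Amp.exists_isGenerator hN (V := ⊤) (x := p) trivial
  have hmem : ∀ y : (ptIdeal η).subscheme, (ι ≫ f) y ∈ V := fun y => by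
    have h : ι y ∈ Set.range ι := ⟨y, rfl⟩
    rw [NumPoly18.range_ptι] at h
    show f (ι y) ∈ V
    rw [hp _ (specializes_iff_mem_closure.2 h)]
    exact hpV
  let N' := (Scheme.Modules.pullback (ι ≫ f)).obj N
  have hN' : PicF.IsInvertible N' := Twist.isInvertible_pullback _ hN
  have hle : (⊤ : (ptIdeal η).subscheme.Opens) ≤ (ι ≫ f) ⁻¹ᵁ V := fun y _ => hmem y
  let t : Γ(N', ⊤) := M2.res N' hle (M2.pullSec (ι ≫ f) N e)
  have htop : CohB1.genLocus N' (M1.secHom t) = ⊤ := by
    refine top_le_iff.1 fun y _ => (Amp.mem_genLocus_iff hN' _).2 ?_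
    rw [Amp.gval_secHom, Amp.gm_res (M := N') hle, Amp.gen_pullSec_iff (ι ≫ f) hN]
    exact Amp.gen_of_isGenerator he (hmem y)
  haveI := CurveAmple18.isIso_of_genLocus_eq_top hN' _ htop
  let i : Coh.structureModule (ptIdeal η).subscheme ≅
      (Scheme.Modules.pullback ι).obj ((Scheme.Modules.pullback f).obj N) :=
    asIso (M1.secHom t) ≪≫ ((Scheme.Modules.pullbackComp ι f).app N).symm
  have hfN := Twist.isInvertible_pullback f hN
  have h2 : Curv2.deg k (ptIdeal η).subscheme ((Scheme.Modules.pullback ι).obj ((Scheme.Modules.pullback f).obj N)) 1 = 0 := by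
    rw [Curv2.deg, ← CurveCoh17.euler_iso i]
    simp
  have h1 := Goodman10.cdeg_eq_sdot (k := k) (SurfRR10.regular (k := k)) (SurfRR10.dim_eq (k := k) hdim) hη hfN
  rw [show ClSub.quotMod (ptIdeal η) =
    (Scheme.Modules.pushforward ι).obj (Coh.structureModule (ptIdeal η).subscheme) from rfl] at h1
  rw [ccl, Goodman10.cl'_eq (k := k) _ _ hη]
  have h3 : (sdot k (Goodman10.ncl (k := k) (SurfRR10.regular (k := k)) (SurfRR10.dim_eq (k := k) hdim) hη)
      (PicGrp.cls _ hfN) : ℚ) = 0 := by
    rw [← h1, NumPoly18.cdeg_push ι rfl hfN, h2]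
    simp
  exact_mod_cast h3

end Groth.Agent.NumConn10

end
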