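import Groth.Agent.Lib.ArInter.Euler
import Groth.Agent.Lib.CurveCoh17.Integral
import Groth.Agent.Lib.CurveCoh17.Twist
import Groth.Agent.Lib.NumPoly18.SurfProj
import Groth.Agent.Lib.SecDiv18.Peel
import Mathlib.RingTheory.OrzechProperty

/-!
# Twisted quotient modules: stalks, restriction to a smaller divisor
-/

set_option autoImplicit false
set_option linter.style.haveILetI false
set_option maxHeartbeats 1000000
set_option backward.isDefEq.respectTransparency false
set_option backward.isDefEq.respectTransparency.types false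

universe u

open CategoryTheory CategoryTheory.Limits AlgebraicGeometry TopologicalSpace Opposite
open scoped TensorProduct

noncomputable section

namespace Groth.Agent.NumConn10

open Groth.Agent.CurveCoh17 (stalkLin)

variable {X : Scheme.{u}}

/-- `O/J ⊗ M`. -/
abbrev tw (J : X.IdealSheafData) (M : X.Modules) : X.Modules := CohB1.tensorMod (ClSub.quotMod J) M

/-- Twisting a morphism of quotient modules. -/
abbrev twMap {J J' : X.IdealSheafData} (r : ClSub.quotMod J ⟶ ClSub.quotMod J') (M : X.Modules) : tw J M ⟶ tw J' M :=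
  (M2.tensorR M).map r

theorem stalkLin_comp {A B C : X.Modules} (f : A ⟶ B) (g : B ⟶ C) (x : X) (a : A.presheaf.stalk x) :
    stalkLin (f ≫ g) x a = stalkLin g x (stalkLin f x a) := CurveCoh17.stalkLin_comp f g x a

/-- `1` in the stalk of the structure module. -/
abbrev oneAt (x : X) : (Coh.structureModule X).presheaf.stalk x :=
  (Coh.structureModule X).presheaf.germ ⊤ x trivial (M1.one ⊤)

theorem exists_smul_one (x : X) (a : (Coh.structureModule X).presheaf.stalk x) :
    ∃ c : X.presheaf.stalk x, a = c • oneAt x := by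
  obtain ⟨c, hc, -⟩ := CurveCoh17.stalkLin_secHom (M1.one (X := X) ⊤) x a
  exact ⟨c, hc⟩

theorem surjective_toSubscheme (J : X.IdealSheafData) (x : X) :
    Function.Surjective (stalkLin (ClSub.toSubscheme J) x) :=
  (M1.epi_iff_stalk (ClSub.toSubscheme J)).1 (M2.shortExact_idealMod J).epi_g x

/-- The stalk of a twist is the stalk of the quotient. -/
theorem exists_twEquiv (J : X.IdealSheafData) {M : X.Modules} (hM : PicF.IsInvertible M) (x : X) :
    Nonempty ((tw J M).presheaf.stalk x ≃ₗ[X.presheaf.stalk x] (ClSub.quotMod J).presheaf.stalk x) := by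
  obtain ⟨e⟩ := CurveCoh17.nonempty_stalk_equiv ((M2.isInvertible_iff_isFinLocFreeOfRank_one M).1 hM) x
  exact ⟨(M2.stalkEquiv (ClSub.quotMod J) M x) ≪≫ₗ
    (TensorProduct.congr (LinearEquiv.refl _ _) (e ≪≫ₗ LinearEquiv.funUnique (Fin 1) _ _)) ≪≫ₗ
      TensorProduct.rid _ _⟩

theorem exists_gen (J : X.IdealSheafData) {M : X.Modules} (hM : PicF.IsInvertible M) (x : X) :
    ∃ g : (tw J M).presheaf.stalk x, ∀ a, ∃ c : X.presheaf.stalk x, a = c • g := by
  obtain ⟨e⟩ := exists_twEquiv J hM x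
  refine ⟨e.symm (stalkLin (ClSub.toSubscheme J) x (oneAt x)), fun a => ?_⟩
  obtain ⟨b, hb⟩ := surjective_toSubscheme J x (e a)
  obtain ⟨c, rfl⟩ := exists_smul_one x b
  exact ⟨c, e.injective (by rw [map_smul, LinearEquiv.apply_symm_apply, ← hb, map_smul])⟩

theorem subsingleton_stalk (J : X.IdealSheafData) {M : X.Modules} (hM : PicF.IsInvertible M) {x : X}
    (hx : x ∉ (J.support : Set X)) : Subsingleton ((tw J M).presheaf.stalk x) := by
  obtain ⟨e⟩ := exists_twEquiv J hM x
  haveI : Subsingleton ((ClSub.quotMod J).presheaf.stalk x) := by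
    refine not_not.1 fun h => hx ?_
    rw [← NumPoly18.support_quotMod J]
    exact h
  exact e.toEquiv.subsingleton

theorem nontrivial_stalk (J : X.IdealSheafData) {M : X.Modules} (hM : PicF.IsInvertible M) {x : X}
    (hx : x ∈ (J.support : Set X)) : Nontrivial ((tw J M).presheaf.stalk x) := by
  obtain ⟨e⟩ := exists_twEquiv J hM x
  rw [← NumPoly18.support_quotMod J] at hx
  haveI : Nontrivial ((ClSub.quotMod J).presheaf.stalk x) := not_subsingleton_iff_nontrivial.1 hx
  exact e.toEquiv.nontrivial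

/-- A map from the structure module vanishes on the ideal. -/
theorem idealModι_comp (Z : X.IdealSheafData) {M : X.Modules} (hM : PicF.IsInvertible M)
    (τ : Coh.structureModule X ⟶ tw Z M) : ClSub.idealModι Z ≫ τ = 0 := by
  refine Scheme.Modules.hom_ext _ _ fun U => ?_
  ext s
  refine M1.section_ext _ _ fun x hx => ?_
  rw [show (0 : ClSub.idealMod Z ⟶ tw Z M).app U s = 0 from rfl, map_zero, ← M1.germ_naturality]
  show stalkLin (ClSub.idealModι Z ≫ τ) x ((ClSub.idealMod Z).presheaf.germ U x hx s) = 0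
  rw [stalkLin_comp]
  obtain ⟨c, hc⟩ := exists_smul_one x (stalkLin (ClSub.idealModι Z) x ((ClSub.idealMod Z).presheaf.germ U x hx s))
  rw [hc, map_smul]
  have h0 : c • stalkLin (ClSub.toSubscheme Z) x (oneAt x) = 0 := by
    rw [← map_smul, ← hc, ← stalkLin_comp]
    show (M1.stalkAb x).map (ClSub.idealModι Z ≫ ClSub.toSubscheme Z) _ = 0
    rw [show ClSub.idealModι Z ≫ ClSub.toSubscheme Z = 0 from kernel.condition _, Functor.map_zero]
    rfl
  obtain ⟨e⟩ := exists_twEquiv Z hM x
  obtain ⟨b, hb⟩ := surjective_toSubscheme Z x (e (stalkLin τ x (oneAt x)))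
  obtain ⟨d, rfl⟩ := exists_smul_one x b
  refine e.injective ?_
  rw [map_smul, ← hb, map_smul, smul_comm, h0, smul_zero, map_zero]

/-- Surjectivity at a point is detected on a smaller divisor through it. -/
theorem surjective_of_restrict {J C : X.IdealSheafData} (r : ClSub.quotMod J ⟶ ClSub.quotMod C) {M : X.Modules}
    (hM : PicF.IsInvertible M) (τ : Coh.structureModule X ⟶ tw J M) {x : X} (hx : x ∈ (C.support : Set X))
    (h : Function.Surjective (stalkLin (τ ≫ twMap r M) x)) : Function.Surjective (stalkLin τ x) := by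
  obtain ⟨g, hg⟩ := exists_gen J hM x
  obtain ⟨a, ha⟩ := hg (stalkLin τ x (oneAt x))
  haveI := nontrivial_stalk C hM hx
  have hall : ∀ y, ∃ b : X.presheaf.stalk x, y = (b * a) • stalkLin (twMap r M) x g := fun y => by
    obtain ⟨z, rfl⟩ := h y
    obtain ⟨b, rfl⟩ := exists_smul_one x z
    exact ⟨b, by rw [map_smul, stalkLin_comp, ha, map_smul, smul_smul]⟩
  by_cases hu : IsUnit a
  · intro y
    obtain ⟨c, rfl⟩ := hg y
    refine ⟨(c * ↑hu.unit⁻¹) • oneAt x, ?_⟩
    rw [map_smul, ha, smul_smul, mul_assoc, IsUnit.val_inv_mul, mul_one]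
  · exfalso
    obtain ⟨b, hb⟩ := hall (stalkLin (twMap r M) x g)
    have hm : b * a ∈ IsLocalRing.maximalIdeal (X.presheaf.stalk x) :=
      Ideal.mul_mem_left _ _ ((IsLocalRing.mem_maximalIdeal _).2 hu)
    have hv : IsUnit (1 - b * a) :=
      (IsLocalRing.isUnit_or_isUnit_one_sub_self (b * a)).resolve_left ((IsLocalRing.mem_maximalIdeal _).1 hm)
    have h0 : (1 - b * a) • stalkLin (twMap r M) x g = 0 := by rw [sub_smul, one_smul, ← hb, sub_self]
    obtain ⟨y, hy⟩ := exists_ne (0 : (tw C M).presheaf.stalk x)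
    obtain ⟨b', hb'⟩ := hall y
    exact hy (by rw [hb', hv.smul_eq_zero.1 h0, smul_zero])

/-- An everywhere generating section trivialises the twist. -/
theorem nonempty_iso_of_surjective (Z : X.IdealSheafData) {M : X.Modules} (hM : PicF.IsInvertible M)
    (τ : Coh.structureModule X ⟶ tw Z M) (h : ∀ x, Function.Surjective (stalkLin τ x)) :
    Nonempty (tw Z M ≅ ClSub.quotMod Z) := by
  have hS := M2.shortExact_idealMod Z
  haveI := hS.epi_g
  obtain ⟨τ'', hτ''⟩ := CokernelCofork.IsColimit.desc' hS.exact.gIsCokernel τ (idealModι_comp Z hM τ)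
  let τ' : ClSub.quotMod Z ⟶ tw Z M := τ''
  have hτ' : ClSub.toSubscheme Z ≫ τ' = τ := hτ''
  
  have hsurj : ∀ x, Function.Surjective (stalkLin τ' x) := fun x y => by
    obtain ⟨a, rfl⟩ := h x y
    refine ⟨stalkLin (ClSub.toSubscheme Z) x a, ?_⟩
    exact (stalkLin_comp (ClSub.toSubscheme Z) τ' x a).symm.trans (congrArg (fun f => stalkLin f x a) hτ')
  haveI : Epi τ' := (M1.epi_iff_stalk τ').2 hsurj
  haveI : Mono τ' := by
    refine (M1.mono_iff_stalk τ').2 fun x => ?_
    obtain ⟨e⟩ := exists_twEquiv Z hM x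
    haveI : Module.Finite (X.presheaf.stalk x) ((ClSub.quotMod Z).presheaf.stalk x) :=
      ⟨⟨{stalkLin (ClSub.toSubscheme Z) x (oneAt x)}, by
        rw [Finset.coe_singleton, eq_top_iff]
        rintro y -
        obtain ⟨b, rfl⟩ := surjective_toSubscheme Z x y
        obtain ⟨c, rfl⟩ := exists_smul_one x b
        rw [map_smul]
        exact Submodule.smul_mem _ _ (Submodule.mem_span_singleton_self _)⟩⟩
    have hi := OrzechProperty.injective_of_surjective_endomorphism (e.toLinearMap.comp (stalkLin τ' x))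
      (e.surjective.comp (hsurj x))
    exact Function.Injective.of_comp (f := e) hi
  haveI := isIso_of_mono_of_epi τ'
  exact ⟨(asIso τ').symm⟩

/-- Splitting off a divisor `C` from `K ≤ C`. -/
theorem exists_split [IsLocallyNoetherian X] {K C : X.IdealSheafData} (hK : BlowUp.IsEffCartierIdeal K)
    (hC : BlowUp.IsEffCartierIdeal C) (hle : K ≤ C) :
    ∃ (K' : X.IdealSheafData) (r : ClSub.quotMod K ⟶ ClSub.quotMod C),
      BlowUp.IsEffCartierIdeal K' ∧ K' * C = K ∧ K ≤ K' ∧ ClSub.toSubscheme K ≫ r = ClSub.toSubscheme C ∧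
      ∀ {M : X.Modules}, PicF.IsInvertible M → ∀ τ : Coh.structureModule X ⟶ tw K M, τ ≠ 0 → τ ≫ twMap r M = 0 →
        ∃ τ' : Coh.structureModule X ⟶ tw K' (CohB1.tensorMod (ClSub.idealMod C) M), τ' ≠ 0 := by
  obtain ⟨K', rfl⟩ : ∃ K', K' * C = K := ⟨_, EffCartier.colon_mul hC hle⟩
  have hK' := EffCartier.isEffCartierIdeal_of_mul_left hK
  obtain ⟨S, hS, ⟨e₁⟩, e₂, e₃, π, hπe, hπ, hπg⟩ := ArInter.exists_quot_ses hK' hC
  refine ⟨K', e₂.inv ≫ S.g ≫ e₃.hom, hK', rfl, fun U => ?_, ?_, ?_⟩
  · rw [Scheme.IdealSheafData.ideal_mul, Pi.mul_apply]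
    exact Ideal.mul_le.2 fun a ha b _ => Ideal.mul_mem_right b _ ha
  · rw [← hπ, Category.assoc, Iso.hom_inv_id_assoc, hπg]
  intro M hM τ hτ hτ0
  have hT := CurveCoh17.shortExact_tensorR hS M fun x =>
    Module.Flat.of_linearEquiv (CurveCoh17.nonempty_stalk_equiv ((M2.isInvertible_iff_isFinLocFreeOfRank_one M).1 hM) x).some
  haveI := hT.mono_f
  have h0 : (τ ≫ (M2.tensorR M).map e₂.inv) ≫ (S.map (M2.tensorR M)).g = 0 := by
    rw [twMap, Functor.map_comp, Functor.map_comp] at hτ0
    rw [← cancel_mono ((M2.tensorR M).map e₃.hom), zero_comp, ShortComplex.map_g, Category.assoc, Category.assoc]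
    exact hτ0
  obtain ⟨l, hl⟩ := KernelFork.IsLimit.lift' hT.exact.fIsKernel _ h0
  let j : (S.map (M2.tensorR M)).X₁ ≅ tw K' (CohB1.tensorMod (ClSub.idealMod C) M) :=
    (M2.tensorR M).mapIso (e₁ ≪≫ M2.tensorComm _ _) ≪≫ M2.tensorAssoc _ _ _
  refine ⟨l ≫ j.hom, fun hl0 => hτ ?_⟩
  have hl1 : l = 0 := by rw [← cancel_mono j.hom, zero_comp]; exact hl0
  rw [hl1, zero_comp] at hl
  rw [← cancel_mono ((M2.tensorR M).map e₂.inv), zero_comp]
  exact hl.symm

end Groth.Agent.NumConn10

end
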