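import Groth.Agent.Lib.NumConn10.Curve
import Groth.Agent.Lib.CurveCoh17.IdealPow

/-!
# Ramanujam's lemma for numerically connected divisors
-/

set_option autoImplicit false
set_option linter.style.haveILetI false
set_option linter.unusedSectionVars false
set_option maxHeartbeats 1000000
set_option backward.isDefEq.respectTransparency false
set_option backward.isDefEq.respectTransparency.types false

universe u

open CategoryTheory CategoryTheory.Limits AlgebraicGeometry TopologicalSpace Opposite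

noncomputable section

namespace Groth.Agent.NumConn10

open Groth.Agent.CurveCoh17 (stalkLin)
open Groth.Agent.NumPoly18 (ptIdeal isIntegral_pt)
open Groth.Agent.SymSq10 (sdot)
open Groth.Agent.SurfRR10 (ncl)

noncomputable local instance instLawMain (Y : Scheme.{u}) : PicGrp.Law Y := M2.law Y

variable {X : Scheme.{u}}

/-- The class of the ideal of a divisor. -/
def icl {J : X.IdealSheafData} (h : BlowUp.IsEffCartierIdeal J) : PicLoc.PicSet X :=
  PicGrp.cls (ClSub.idealMod J) (M2.isInvertible_idealMod J h)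

theorem icl_congr {I J : X.IdealSheafData} (hI : BlowUp.IsEffCartierIdeal I) (hJ : BlowUp.IsEffCartierIdeal J)
    (e : I = J) : icl hI = icl hJ := by
  subst e
  rfl

theorem icl_mul {I J : X.IdealSheafData} (hI : BlowUp.IsEffCartierIdeal I) (hJ : BlowUp.IsEffCartierIdeal J)
    (h : BlowUp.IsEffCartierIdeal (I * J)) : icl h = icl hI * icl hJ := by
  rw [icl, icl, icl, AlgEquiv22.cls_tensor, PicGrp.cls_eq_cls_iff]
  obtain ⟨e⟩ := CurveCoh17.nonempty_idealMod_mul hI hJ
  exact ⟨e.symm⟩

theorem icl_top {J : X.IdealSheafData} (h : BlowUp.IsEffCartierIdeal J) (e : J = ⊤) : icl h = 1 := by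
  subst e
  have h2 : BlowUp.IsEffCartierIdeal ((⊤ : X.IdealSheafData) * ⊤) :=
    EffCartier.isEffCartierIdeal_mul h h
  have h3 := icl_mul h h h2
  rw [icl_congr h2 h (SecDiv.mul_top' _)] at h3
  exact left_eq_mul.mp h3

theorem tw_top_eq_zero {M : X.Modules} (hM : PicF.IsInvertible M)
    (τ : Coh.structureModule X ⟶ tw (⊤ : X.IdealSheafData) M) : τ = 0 := by
  refine Scheme.Modules.hom_ext _ _ fun U => ?_
  ext s
  refine M1.section_ext _ _ fun x hx => ?_
  haveI := subsingleton_stalk (⊤ : X.IdealSheafData) hM (x := x) (by simp)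
  exact Subsingleton.elim _ _

theorem secHom_hh0_eq_zero {k : Type u} [Field k] [X.Over (Spec (CommRingCat.of k))] {M N : X.Modules} (f : M ⟶ N)
    (h : ∀ τ : Coh.structureModule X ⟶ M, τ ≫ f = 0 → τ = 0) :
    Function.Injective (CurveCoh17.hmap k f 0) := by
  refine (injective_iff_map_eq_zero _).2 fun z hz => ?_
  have h1 : f.app ⊤ (CurveCoh17.hh0 M z) = 0 := by
    rw [← CurveCoh17.hh0_hmap k f z, hz, map_zero]
  have h2 : M1.secHom (CurveCoh17.hh0 M z) ≫ f = 0 := by
    rw [CurveCoh17.secHom_comp, h1]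
    exact M1.unit_hom_ext (by rw [M1.secHom_app_one]; rfl)
  have h3 := congrArg (fun g : Coh.structureModule X ⟶ M => g.app ⊤ (M1.one ⊤)) (h _ h2)
  simp only [M1.secHom_app_one] at h3
  exact (CurveCoh17.hh0 M).injective (h3.trans (map_zero _).symm)

variable {k : Type u} [Field k] [IsAlgClosed k] [X.Over (Spec (CommRingCat.of k))]
  [IsProper (X ↘ Spec (CommRingCat.of k))] [Smooth (X ↘ Spec (CommRingCat.of k))] [IsIntegral X]
  (hdim : topologicalKrullDim X = 2)
include k hdim

theorem cartier_pt {ξ : X} (hξ : topologicalKrullDim (closure ({ξ} : Set X)) = 1) :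
    BlowUp.IsEffCartierIdeal (ptIdeal ξ) :=
  Goodman10.isEffCartier_pt (k := k) (SurfRR10.regular (k := k)) (SurfRR10.dim_eq (k := k) hdim) hξ

theorem icl_pt {ξ : X} (hξ : topologicalKrullDim (closure ({ξ} : Set X)) = 1) :
    icl (cartier_pt (k := k) hdim hξ) = (ncl (k := k) hdim hξ)⁻¹ :=
  SurfRR10.cls_ideal_pt (k := k) hdim hξ _

theorem ncl_ne_one {ξ : X} (hξ : topologicalKrullDim (closure ({ξ} : Set X)) = 1) :
    ncl (k := k) hdim hξ ≠ 1 := fun h => by
  obtain ⟨H, hH⟩ := SurfRR10.exists_ample (k := k) hdim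
  have h1 := SurfRR10.pos_of_isAmple (k := k) hdim hξ hH
  rw [h, SymSq10.sdot_one_left] at h1
  exact lt_irrefl _ h1

/-- Splitting off a curve makes the ideal strictly larger. -/
theorem lt_of_split {ξ : X} (hξ : topologicalKrullDim (closure ({ξ} : Set X)) = 1) {K K' : X.IdealSheafData}
    (hK : BlowUp.IsEffCartierIdeal K) (hK' : BlowUp.IsEffCartierIdeal K') (h : K' * ptIdeal ξ = K) (hle : K ≤ K') :
    K < K' := by
  refine lt_of_le_of_ne hle fun he => ncl_ne_one (k := k) hdim hξ ?_
  have h1 := icl_mul hK' (cartier_pt (k := k) hdim hξ) (by rw [h]; exact hK)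
  rw [icl_congr (by rw [h]; exact hK) hK' (h.trans he), icl_pt (k := k) hdim hξ] at h1
  exact inv_eq_one.1 (left_eq_mul.mp h1)

theorem exists_curve_le {K : X.IdealSheafData} (hK : BlowUp.IsEffCartierIdeal K) (hne : K ≠ ⊤) :
    ∃ ξ : X, topologicalKrullDim (closure ({ξ} : Set X)) = 1 ∧ K ≤ ptIdeal ξ := by
  obtain ⟨η, hη, h1⟩ := NumPoly18.exists_curve_in_divisor (k := k) (SurfRR10.dim_eq (k := k) hdim) hK hne
  refine ⟨η, h1, SecDiv.le_of_support (isIntegral_pt η).1 ?_⟩
  rw [Scheme.IdealSheafData.coe_support_vanishingIdeal]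
  exact closure_minimal (Set.singleton_subset_iff.2 hη) K.support.isClosed

/-- A class nonnegative on all components meets the ideal nonpositively. -/
theorem sdot_icl_nonpos (c : PicLoc.PicSet X) :
    ∀ (K : X.IdealSheafData) (hK : BlowUp.IsEffCartierIdeal K),
      (∀ (ξ : X) (hξ : topologicalKrullDim (closure ({ξ} : Set X)) = 1), K ≤ ptIdeal ξ →
        0 ≤ sdot k (ncl (k := k) hdim hξ) c) → sdot k c (icl hK) ≤ 0 := by
  haveI : IsNoetherian X := CohFound.isNoetherian_of_isProper (X ↘ Spec (CommRingCat.of k))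
  haveI := SecDiv.wellFoundedGT (X := X)
  intro K
  induction K using (wellFounded_gt (α := X.IdealSheafData)).induction with
  | _ K ih =>
    intro hK h
    by_cases hne : K = ⊤
    · rw [icl_top hK hne, SymSq10.sdot_comm, SymSq10.sdot_one_left]
    · obtain ⟨ξ, hξ, hle⟩ := exists_curve_le (k := k) hdim hK hne
      obtain ⟨K', r, hK', hmul, hKK', -, -⟩ := exists_split hK (cartier_pt (k := k) hdim hξ) hle
      have h1 := ih K' (lt_of_split (k := k) hdim hξ hK hK' hmul hKK') hK' fun η hη hl => h η hη (hKK'.trans hl)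
      have h2 := icl_mul hK' (cartier_pt (k := k) hdim hξ) (by rw [hmul]; exact hK)
      rw [icl_congr (by rw [hmul]; exact hK) hK hmul, icl_pt (k := k) hdim hξ] at h2
      have h3 := h ξ hξ hle
      rw [SymSq10.sdot_comm] at h3
      rw [h2, SurfRR10.sdot_mul_right (k := k) hdim, SurfRR10.sdot_inv_right (k := k) hdim]
      omega

/-- Split off the curves on which a section vanishes. -/
theorem exists_peel :
    ∀ (K : X.IdealSheafData), BlowUp.IsEffCartierIdeal K → ∀ (M : X.Modules) (hM : PicF.IsInvertible M)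
      (τ : Coh.structureModule X ⟶ tw K M), τ ≠ 0 →
      ∃ (J K' : X.IdealSheafData) (hJ : BlowUp.IsEffCartierIdeal J),
        BlowUp.IsEffCartierIdeal K' ∧ J * K' = K ∧ K' ≠ ⊤ ∧ K ≤ K' ∧
        (∀ (ξ : X) (hξ : topologicalKrullDim (closure ({ξ} : Set X)) = 1), K' ≤ ptIdeal ξ →
          0 ≤ sdot k (ncl (k := k) hdim hξ) (icl hJ * PicGrp.cls M hM)) ∧
        (J = ⊤ → ∀ (ξ : X), topologicalKrullDim (closure ({ξ} : Set X)) = 1 → K ≤ ptIdeal ξ →
          ∀ r : ClSub.quotMod K ⟶ ClSub.quotMod (ptIdeal ξ),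
            ClSub.toSubscheme K ≫ r = ClSub.toSubscheme (ptIdeal ξ) → τ ≫ twMap r M ≠ 0) := by
  haveI : IsNoetherian X := CohFound.isNoetherian_of_isProper (X ↘ Spec (CommRingCat.of k))
  haveI := SecDiv.wellFoundedGT (X := X)
  intro K
  induction K using (wellFounded_gt (α := X.IdealSheafData)).induction with
  | _ K ih =>
    intro hK M hM τ hτ
    haveI := (M2.shortExact_idealMod K).epi_g
    by_cases hv : ∀ (ξ : X), topologicalKrullDim (closure ({ξ} : Set X)) = 1 → K ≤ ptIdeal ξ →
          ∀ r : ClSub.quotMod K ⟶ ClSub.quotMod (ptIdeal ξ),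
            ClSub.toSubscheme K ≫ r = ClSub.toSubscheme (ptIdeal ξ) → τ ≫ twMap r M ≠ 0
    · have htop : BlowUp.IsEffCartierIdeal (⊤ : X.IdealSheafData) :=
        EffCartier.isEffCartierIdeal_of_mul_right (show BlowUp.IsEffCartierIdeal (K * ⊤) by rwa [SecDiv.mul_top'])
      refine ⟨⊤, K, htop, hK, (mul_comm _ _).trans (SecDiv.mul_top' K), fun e => ?_, le_rfl, fun ξ hξ hle => ?_,
        fun _ => hv⟩
      · subst e
        exact hτ (tw_top_eq_zero hM τ)
      · rw [icl_top htop rfl, one_mul]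
        obtain ⟨K'', r, -, -, -, hr, -⟩ := exists_split hK (cartier_pt (k := k) hdim hξ) hle
        exact (deg_sec (k := k) hdim hξ hM _ (hv ξ hξ hle r hr)).1
    · push Not at hv
      obtain ⟨ξ, hξ, hle, r, hr, hr0⟩ := hv
      have hC := cartier_pt (k := k) hdim hξ
      obtain ⟨K₁, r₀, hK₁, hmul, hKK₁, hr₀, hfac⟩ := exists_split hK hC hle
      have : r = r₀ := (cancel_epi (ClSub.toSubscheme K)).1 (hr.trans hr₀.symm)
      subst this
      obtain ⟨τ', hτ'⟩ := hfac hM τ hτ hr0
      have hCi := M2.isInvertible_idealMod _ hC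
      obtain ⟨J₁, K', hJ₁, hK', hm, hne, hle', hdeg, -⟩ := ih K₁ (lt_of_split (k := k) hdim hξ hK hK₁ hmul hKK₁) hK₁
        (CohB1.tensorMod (ClSub.idealMod (ptIdeal ξ)) M) (M2.isInvertible_tensor hCi hM) τ' hτ'
      have hJ := EffCartier.isEffCartierIdeal_mul hJ₁ hC
      refine ⟨J₁ * ptIdeal ξ, K', hJ, hK', ?_, hne, hKK₁.trans hle', fun η hη hl => ?_, fun e => ?_⟩
      · rw [mul_right_comm, hm, hmul]
      · have h1 := hdeg η hη hl
        rwa [← AlgEquiv22.cls_tensor hCi hM, ← mul_assoc, show PicGrp.cls _ hCi = icl hC from rfl,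
          ← icl_mul hJ₁ hC hJ] at h1
      · exfalso
        have hp : (⊤ : X.IdealSheafData) ≤ ptIdeal ξ := e ▸ fun U => by
          rw [Scheme.IdealSheafData.ideal_mul, Pi.mul_apply]
          exact Ideal.mul_le.2 fun a _ b hb => Ideal.mul_mem_left _ a hb
        have hmem : ξ ∈ ((ptIdeal ξ).support : Set X) := by
          rw [Scheme.IdealSheafData.coe_support_vanishingIdeal]
          exact subset_closure rfl
        rw [top_le_iff.1 hp] at hmem
        simp at hmem

variable {Z : X.IdealSheafData} (hZ : BlowUp.IsEffCartierIdeal Z)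
  (hnc : ∀ (J K : X.IdealSheafData) (hJ : BlowUp.IsEffCartierIdeal J) (hK : BlowUp.IsEffCartierIdeal K),
    J ≠ ⊤ → K ≠ ⊤ → Z = J * K → 0 < sdot k (icl hJ) (icl hK))
  {L : X.Modules} (hL : PicF.IsInvertible L)
  (hdeg : ∀ (ξ : X) (hξ : topologicalKrullDim (closure ({ξ} : Set X)) = 1), Z ≤ ptIdeal ξ →
    sdot k (ncl (k := k) hdim hξ) (PicGrp.cls L hL) ≤ 0)
include hZ hnc hdeg

/-- A nonzero section vanishes identically on no component. -/
theorem restrict_ne_zero (τ : Coh.structureModule X ⟶ tw Z L) (hτ : τ ≠ 0) {ξ : X}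
    (hξ : topologicalKrullDim (closure ({ξ} : Set X)) = 1) (hle : Z ≤ ptIdeal ξ)
    (r : ClSub.quotMod Z ⟶ ClSub.quotMod (ptIdeal ξ))
    (hr : ClSub.toSubscheme Z ≫ r = ClSub.toSubscheme (ptIdeal ξ)) : τ ≫ twMap r L ≠ 0 := by
  obtain ⟨J, K, hJ, hK, hm, hne, hZK, hpos, htop⟩ := exists_peel (k := k) hdim Z hZ L hL τ hτ
  by_cases hJt : J = ⊤
  · exact htop hJt ξ hξ hle r hr
  · exfalso
    have h1 := sdot_icl_nonpos (k := k) hdim (icl hJ) K hK fun η hη hl => by
      have h2 := hpos η hη hl
      rw [SurfRR10.sdot_mul_right (k := k) hdim] at h2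
      have := hdeg η hη (hZK.trans hl)
      omega
    have := hnc J K hJ hK hJt hne hm.symm
    omega

/-- A nonzero section generates everywhere. -/
theorem surjective_stalk (τ : Coh.structureModule X ⟶ tw Z L) (hτ : τ ≠ 0) (x : X) :
    Function.Surjective (stalkLin τ x) := by
  haveI : IsNoetherian X := CohFound.isNoetherian_of_isProper (X ↘ Spec (CommRingCat.of k))
  by_cases hx : x ∈ (Z.support : Set X)
  · obtain ⟨z, rfl⟩ : x ∈ Set.range Z.subschemeι := Z.range_subschemeι.ge hx
    have hirr : IsIrreducible (irreducibleComponent z) := isIrreducible_irreducibleComponent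
    have hg := hirr.isGenericPoint_genericPoint isClosed_irreducibleComponent
    have hgz : hirr.genericPoint ⤳ z := hg.specializes mem_irreducibleComponent
    have hηx : Z.subschemeι hirr.genericPoint ⤳ Z.subschemeι z := hgz.map Z.subschemeι.continuous
    have hηm : Z.subschemeι hirr.genericPoint ∈ Z.support := Z.range_subschemeι.le ⟨_, rfl⟩
    have hmax : ∀ y ∈ (Z.support : Set X), y ⤳ Z.subschemeι hirr.genericPoint →
        y = Z.subschemeι hirr.genericPoint := by
      intro y hy hyη
      obtain ⟨y, rfl⟩ := Z.range_subschemeι.ge hy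
      have hy' : y ⤳ hirr.genericPoint := Z.subschemeι.isClosedEmbedding.isInducing.specializes_iff.1 hyη
      have hsub : irreducibleComponent z ⊆ closure ({y} : Set Z.subscheme) := by
        rw [← hg.def]
        exact closure_minimal (Set.singleton_subset_iff.2 (specializes_iff_mem_closure.1 hy')) isClosed_closure
      have heq := eq_irreducibleComponent isIrreducible_singleton.closure.isPreirreducible hsub
      have hy2 : IsGenericPoint y (irreducibleComponent z) := heq
      rw [hy2.eq hg]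
    have h1 := SecDiv.ringKrullDim_generic hZ hηm hmax
    have h2 := NumPoly18.ringKrullDim_stalk_of_sdim (k := k) (SurfRR10.dim_eq (k := k) hdim) (Z.subschemeι hirr.genericPoint)
    rw [h1] at h2
    have h3 : VarDim.sdim (X ↘ Spec (CommRingCat.of k)) (Z.subschemeι hirr.genericPoint) = 1 := by
      have h4 : 1 + VarDim.sdim (X ↘ Spec (CommRingCat.of k)) (Z.subschemeι hirr.genericPoint) = 2 := by
        exact_mod_cast h2
      omega
    have hξ : topologicalKrullDim (closure ({Z.subschemeι hirr.genericPoint} : Set X)) = 1 := by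
      rw [VarDim.dim_closure_singleton (X ↘ Spec (CommRingCat.of k)), h3]
      rfl
    have hle : Z ≤ ptIdeal (Z.subschemeι hirr.genericPoint) := SecDiv.le_of_support (isIntegral_pt _).1 (by
      rw [Scheme.IdealSheafData.coe_support_vanishingIdeal]
      exact closure_minimal (Set.singleton_subset_iff.2 hηm) Z.support.isClosed)
    obtain ⟨K', r, -, -, -, hr, -⟩ := exists_split hZ (cartier_pt (k := k) hdim hξ) hle
    refine surjective_of_restrict r hL τ ?_ ((deg_sec (k := k) hdim hξ hL _
      (restrict_ne_zero (k := k) hdim hZ hnc hL hdeg τ hτ hξ hle r hr)).2 (hdeg _ hξ hle) _)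
    rw [Scheme.IdealSheafData.coe_support_vanishingIdeal]
    exact specializes_iff_mem_closure.1 hηx
  · haveI := subsingleton_stalk Z hL hx
    exact fun y => ⟨0, Subsingleton.elim _ _⟩

/-- Ramanujam's lemma. -/
theorem finrank_le_one_and_iso (hZ0 : Z ≠ ⊤) :
    Module.finrank k (Coh.HH X (tw Z L) 0) ≤ 1 ∧
      (Module.finrank k (Coh.HH X (tw Z L) 0) = 1 → Nonempty (tw Z L ≅ ClSub.quotMod Z)) := by
  haveI : IsNoetherian X := CohFound.isNoetherian_of_isProper (X ↘ Spec (CommRingCat.of k))
  refine ⟨?_, fun h1 => ?_⟩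
  · obtain ⟨ξ, hξ, hle⟩ := exists_curve_le (k := k) hdim hZ hZ0
    obtain ⟨K', r, -, -, -, hr, -⟩ := exists_split hZ (cartier_pt (k := k) hdim hξ) hle
    obtain ⟨hfin, hle1⟩ := finrank_sec_le_one (k := k) hdim hξ hL (hdeg ξ hξ hle)
    haveI := hfin
    refine le_trans (LinearMap.finrank_le_finrank_of_injective (f := CurveCoh17.hmap k (twMap r L) 0)
      (secHom_hh0_eq_zero (k := k) (twMap r L) fun τ h0 => ?_)) hle1
    by_contra hne
    exact restrict_ne_zero (k := k) hdim hZ hnc hL hdeg τ hne hξ hle r hr h0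
  · haveI : Nontrivial (Coh.HH X (tw Z L) 0) := Module.nontrivial_of_finrank_pos (R := k) (by omega)
    obtain ⟨z, hz⟩ := exists_ne (0 : Coh.HH X (tw Z L) 0)
    let t := CurveCoh17.hh0 (tw Z L) z
    have hne : M1.secHom t ≠ 0 := fun h0 => hz ((CurveCoh17.hh0 (tw Z L)).injective (by
      rw [map_zero]
      have := congrArg (fun g : Coh.structureModule X ⟶ tw Z L => g.app ⊤ (M1.one ⊤)) h0
      simp only [M1.secHom_app_one] at this
      exact this))
    exact nonempty_iso_of_surjective Z hL _ (surjective_stalk (k := k) hdim hZ hnc hL hdeg _ hne)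

end Groth.Agent.NumConn10

end
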