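import Groth.Agent.Lib.NumConn10.Stalk
import Groth.Agent.Lib.SurfRR10.Curves
import Groth.Agent.Lib.SurfRR10.Restrict

/-!
# Sections of twisted quotient modules on a curve
-/

set_option autoImplicit false
set_option linter.style.haveILetI false
set_option linter.unusedSectionVars false
set_option maxHeartbeats 1000000
set_option backward.isDefEq.respectTransparency false
set_option backward.isDefEq.respectTransparency.types false

universe u

open CategoryTheory CategoryTheory.Limits AlgebraicGeometry TopologicalSpace Opposite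

noncomputable section

namespace Groth.Agent.NumConn10

open Groth.Agent.CurveCoh17 (stalkLin)
open Groth.Agent.NumPoly18 (ptIdeal isIntegral_pt)
open Groth.Agent.SymSq10 (sdot)
open Groth.Agent.SurfRR10 (ncl)

noncomputable local instance instLawCurve (Y : Scheme.{u}) : PicGrp.Law Y := M2.law Y

variable {k : Type u} [Field k] [IsAlgClosed k] {X : Scheme.{u}} [X.Over (Spec (CommRingCat.of k))]
  [IsProper (X ↘ Spec (CommRingCat.of k))] [Smooth (X ↘ Spec (CommRingCat.of k))] [IsIntegral X]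
  (hdim : topologicalKrullDim X = 2)
include k hdim

/-- Sections of `O_C ⊗ M`: the degree is nonnegative, zero only for a generating section. -/
theorem deg_sec {ξ : X} (hξ : topologicalKrullDim (closure ({ξ} : Set X)) = 1) {M : X.Modules}
    (hM : PicF.IsInvertible M) (ρ : Coh.structureModule X ⟶ tw (ptIdeal ξ) M) (hρ : ρ ≠ 0) :
    0 ≤ sdot k (ncl (k := k) hdim hξ) (PicGrp.cls M hM) ∧
      (sdot k (ncl (k := k) hdim hξ) (PicGrp.cls M hM) ≤ 0 →
        ∀ x, Function.Surjective (stalkLin ρ x)) := by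
  haveI : IsNoetherian X := CohFound.isNoetherian_of_isProper (X ↘ Spec (CommRingCat.of k))
  let ι := (ptIdeal ξ).subschemeι
  letI : (ptIdeal ξ).subscheme.Over (Spec (CommRingCat.of k)) := ⟨ι ≫ (X ↘ Spec (CommRingCat.of k))⟩
  haveI : IsProper ((ptIdeal ξ).subscheme ↘ Spec (CommRingCat.of k)) :=
    inferInstanceAs (IsProper (ι ≫ (X ↘ Spec (CommRingCat.of k))))
  haveI := (isIntegral_pt ξ).1
  haveI : IsNoetherian (ptIdeal ξ).subscheme :=
    CohFound.isNoetherian_of_isProper ((ptIdeal ξ).subscheme ↘ Spec (CommRingCat.of k))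
  have hd1 : topologicalKrullDim (ptIdeal ξ).subscheme ≤ 1 :=
    ((AmpleFin18.dim_subscheme _ (Scheme.IdealSheafData.coe_support_vanishingIdeal _)).trans hξ).le
  obtain ⟨M', hM', ⟨eM⟩⟩ := M2.exists_inverse hM
  let N := (Scheme.Modules.pullback ι).obj M
  have hN : PicF.IsInvertible N := PicLoc.isInvertible_pullback ι hM
  let j : tw (ptIdeal ξ) M ≅ (Scheme.Modules.pushforward ι).obj N :=
    (Kunneth22.projIso ι eM).app (Coh.structureModule _) ≪≫ (Scheme.Modules.pushforward ι).mapIso (M2.tensorLUnit _)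
  let ρ' := ρ ≫ j.hom
  let s : Γ(N, (⊤ : (ptIdeal ξ).subscheme.Opens)) := ρ'.app ⊤ (M1.one ⊤)
  have heq : ρ' = ClSub.toSubscheme (ptIdeal ξ) ≫ (Scheme.Modules.pushforward ι).map (M1.secHom s) := by
    refine M1.unit_hom_ext ?_
    rw [Scheme.Modules.Hom.comp_app, CategoryTheory.comp_apply]
    show s = (M1.secHom s).app ⊤ ((ClSub.toSubscheme (ptIdeal ξ)).app ⊤ (M1.one ⊤))
    rw [show (ClSub.toSubscheme (ptIdeal ξ)).app ⊤ (M1.one ⊤) = M1.one (⊤ : (ptIdeal ξ).subscheme.Opens) from map_one ((ptIdeal ξ).subschemeι.app ⊤).hom]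
    exact (M1.secHom_app_one s).symm
  have hs : s ≠ 0 := fun h0 => hρ (by
    rw [← cancel_mono j.hom, zero_comp]
    refine heq.trans ?_
    rw [show M1.secHom s = 0 from M1.unit_hom_ext (by rw [M1.secHom_app_one, h0]; rfl), Functor.map_zero, comp_zero])
  obtain ⟨h0, hiso⟩ := CurveAmple18.deg_section (k := k) hd1 hN s hs
  have hdeg : sdot k (ncl (k := k) hdim hξ) (PicGrp.cls M hM) = Curv2.deg k (ptIdeal ξ).subscheme N 1 := by
    rw [← SurfRR10.cdeg_quot (k := k) hdim hξ hM, Curv2.deg, Nat.cast_one, one_mul,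
      CurveCoh17.euler_iso (show CohB1.tensorMod (ClSub.quotMod (ptIdeal ξ)) M ≅ _ from j),
      AmpleFin18.euler_push ι rfl _ (M1.isCoh_structureModule _).1,
      AmpleFin18.euler_push ι rfl _ (CurveCoh17.isCoh_of_ofRank ((M2.isInvertible_iff_isFinLocFreeOfRank_one N).1 hN)).1]
  refine ⟨hdeg ▸ h0, fun hle x => ?_⟩
  haveI := hiso (le_antisymm (hdeg ▸ hle) h0)
  haveI := (M2.shortExact_idealMod (ptIdeal ξ)).epi_g
  haveI : Epi ρ' := by rw [heq]; exact epi_comp _ _
  have hρe : Epi ρ := by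
    have : ρ = ρ' ≫ j.inv := by simp [ρ']
    rw [this]
    exact epi_comp _ _
  exact (M1.epi_iff_stalk ρ).1 hρe x

/-- Nonpositive degree on an integral curve leaves at most one section. -/
theorem finrank_sec_le_one {ξ : X} (hξ : topologicalKrullDim (closure ({ξ} : Set X)) = 1) {M : X.Modules}
    (hM : PicF.IsInvertible M) (h : sdot k (ncl (k := k) hdim hξ) (PicGrp.cls M hM) ≤ 0) :
    Module.Finite k (Coh.HH X (tw (ptIdeal ξ) M) 0) ∧ Module.finrank k (Coh.HH X (tw (ptIdeal ξ) M) 0) ≤ 1 := by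
  haveI : IsNoetherian X := CohFound.isNoetherian_of_isProper (X ↘ Spec (CommRingCat.of k))
  let ι := (ptIdeal ξ).subschemeι
  letI : (ptIdeal ξ).subscheme.Over (Spec (CommRingCat.of k)) := ⟨ι ≫ (X ↘ Spec (CommRingCat.of k))⟩
  haveI : IsProper ((ptIdeal ξ).subscheme ↘ Spec (CommRingCat.of k)) :=
    inferInstanceAs (IsProper (ι ≫ (X ↘ Spec (CommRingCat.of k))))
  haveI := (isIntegral_pt ξ).1
  haveI : IsNoetherian (ptIdeal ξ).subscheme :=
    CohFound.isNoetherian_of_isProper ((ptIdeal ξ).subscheme ↘ Spec (CommRingCat.of k))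
  have hd1 : topologicalKrullDim (ptIdeal ξ).subscheme ≤ 1 :=
    ((AmpleFin18.dim_subscheme _ (Scheme.IdealSheafData.coe_support_vanishingIdeal _)).trans hξ).le
  obtain ⟨M', hM', ⟨eM⟩⟩ := M2.exists_inverse hM
  let N := (Scheme.Modules.pullback ι).obj M
  have hN : PicF.IsInvertible N := PicLoc.isInvertible_pullback ι hM
  have hNc := CurveCoh17.isCoh_of_ofRank ((M2.isInvertible_iff_isFinLocFreeOfRank_one N).1 hN)
  let j : tw (ptIdeal ξ) M ≅ (Scheme.Modules.pushforward ι).obj N :=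
    (Kunneth22.projIso ι eM).app (Coh.structureModule _) ≪≫ (Scheme.Modules.pushforward ι).mapIso (M2.tensorLUnit _)
  obtain ⟨e⟩ := AmpleFin18.nonempty_HH_push (k := k) ι rfl N hNc.1 0
  have hdeg : sdot k (ncl (k := k) hdim hξ) (PicGrp.cls M hM) = Curv2.deg k (ptIdeal ξ).subscheme N 1 := by
    rw [← SurfRR10.cdeg_quot (k := k) hdim hξ hM, Curv2.deg, Nat.cast_one, one_mul,
      CurveCoh17.euler_iso (show CohB1.tensorMod (ClSub.quotMod (ptIdeal ξ)) M ≅ _ from j),
      AmpleFin18.euler_push ι rfl _ (M1.isCoh_structureModule _).1, AmpleFin18.euler_push ι rfl _ hNc.1]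
  let e' := (CurveCoh17.hequiv k j 0).trans e
  haveI : Module.Finite k (Coh.HH (ptIdeal ξ).subscheme N 0) := CohFound.finite_HH_of_isProper _ hNc 0
  refine ⟨Module.Finite.equiv e'.symm, ?_⟩
  rw [e'.finrank_eq]
  rcases subsingleton_or_nontrivial (Coh.HH (ptIdeal ξ).subscheme N 0) with hs | hn
  · rw [Module.finrank_zero_of_subsingleton]
    exact zero_le_one
  · have h1 := (CurveAmple18.curveLike k _ hd1).h0_le_deg_add (CurveCoh17.rkOne_of_invertible hd1 hN) hn
    rw [SurfRR10.finrank_h0_eq_one (k := k)] at h1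
    omega

end Groth.Agent.NumConn10

end
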