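import Groth.Agent.Lib.NumConn10.Fibre

/-!
# Multiplicities of curves in a divisor
-/

set_option autoImplicit false
set_option linter.style.haveILetI false
set_option linter.unusedSectionVars false
set_option maxHeartbeats 1000000
set_option backward.isDefEq.respectTransparency false
set_option backward.isDefEq.respectTransparency.types false

universe u

open CategoryTheory CategoryTheory.Limits AlgebraicGeometry TopologicalSpace Opposite IsLocalRing

noncomputable section

namespace Groth.Agent.NumConn10

open Groth.Agent.NumPoly18 (ptIdeal)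

variable {k : Type u} [Field k] {X : Scheme.{u}} [X.Over (Spec (CommRingCat.of k))]
  [IsProper (X ↘ Spec (CommRingCat.of k))] [IsIntegral X]
  (hd : topologicalKrullDim X = ((2 : ℕ) : WithBot ℕ∞))
include k hd

/-- The local ring at a curve sees exactly the multiplicity of the curve. -/
theorem map_prod_ideal (W : X.affineOpens) {ξ : X} (hξ : topologicalKrullDim (closure ({ξ} : Set X)) = 1)
    (hξW : ξ ∈ W.1) [DecidableEq X] :
    ∀ s : Multiset X, (∀ η ∈ s, topologicalKrullDim (closure ({η} : Set X)) = 1) →
      (((s.map ptIdeal).prod).ideal W).map (X.presheaf.germ W.1 ξ hξW).hom =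
        maximalIdeal (X.presheaf.stalk ξ) ^ s.count ξ := by
  intro s
  induction s using Multiset.induction_on with
  | empty =>
    intro _
    simp [Scheme.IdealSheafData.one_eq_top, Ideal.map_top]
  | cons η s ih =>
    intro hs
    rw [Multiset.map_cons, Multiset.prod_cons, Scheme.IdealSheafData.ideal_mul, Pi.mul_apply, Ideal.map_mul,
      ih fun a ha => hs a (Multiset.mem_cons_of_mem ha)]
    by_cases hne : ξ = η
    · subst hne
      rw [Multiset.count_cons_self, pow_succ']
      congr 1
      letI := TopCat.Presheaf.algebra_section_stalk X.presheaf (⟨ξ, hξW⟩ : W.1)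
      haveI := W.2.isLocalization_stalk ⟨ξ, hξW⟩
      let p := W.2.primeIdealOf ⟨ξ, hξW⟩
      have he : (ptIdeal ξ).ideal W = p.asIdeal := by
        show PrimeSpectrum.vanishingIdeal (W.2.fromSpec ⁻¹' closure {ξ}) = _
        have h : W.2.fromSpec ⁻¹' closure {ξ} = closure {p} := by
          rw [W.2.fromSpec.isOpenEmbedding.isOpenMap.preimage_closure_eq_closure_preimage W.2.fromSpec.continuous]
          congr 1
          ext q
          simp only [Set.mem_preimage, Set.mem_singleton_iff]
          refine ⟨fun h => W.2.fromSpec.isOpenEmbedding.injective (h.trans (W.2.fromSpec_primeIdealOf ⟨ξ, hξW⟩).symm), fun h => ?_⟩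
          rw [h]
          exact W.2.fromSpec_primeIdealOf ⟨ξ, hξW⟩
        rw [h, PrimeSpectrum.vanishingIdeal_closure, PrimeSpectrum.vanishingIdeal_singleton]
      rw [he]
      exact IsLocalization.AtPrime.map_eq_maximalIdeal p.asIdeal (X.presheaf.stalk ξ)
    · rw [Multiset.count_cons_of_ne hne]
      convert one_mul _
      rw [Ideal.one_eq_top, Ideal.eq_top_iff_one]
      let p := W.2.primeIdealOf ⟨ξ, hξW⟩
      have hp : p ∉ PrimeSpectrum.zeroLocus ((ptIdeal η).ideal W : Set Γ(X, W.1)) := by
        show p ∉ PrimeSpectrum.zeroLocus (PrimeSpectrum.vanishingIdeal (W.2.fromSpec ⁻¹' closure {η}) : Set Γ(X, W.1))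
        rw [PrimeSpectrum.zeroLocus_vanishingIdeal_eq_closure,
          (isClosed_closure.preimage W.2.fromSpec.continuous).closure_eq, Set.mem_preimage,
          show W.2.fromSpec p = ξ from W.2.fromSpec_primeIdealOf ⟨ξ, hξW⟩]
        exact fun h => hne (Goodman10.eq_of_spec (k := k) hd (hs η (Multiset.mem_cons_self η s)) hξ
          (specializes_iff_mem_closure.2 h)).symm
      rw [PrimeSpectrum.mem_zeroLocus, Set.not_subset] at hp
      obtain ⟨a, ha, hap⟩ := hp
      letI := TopCat.Presheaf.algebra_section_stalk X.presheaf (⟨ξ, hξW⟩ : W.1)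
      haveI := W.2.isLocalization_stalk ⟨ξ, hξW⟩
      have hu : IsUnit (X.presheaf.germ W.1 ξ hξW a) :=
        IsLocalization.map_units (X.presheaf.stalk ξ) (⟨a, hap⟩ : p.asIdeal.primeCompl)
      obtain ⟨v, hv⟩ := hu.exists_left_inv
      rw [← hv]
      exact Ideal.mul_mem_left _ _ (Ideal.mem_map_of_mem _ ha)

/-- Two combinations of curves that agree near a curve have it with the same multiplicity. -/
theorem count_eq_of_ideal_eq [DecidableEq X] (s t : Multiset X)
    (hs : ∀ η ∈ s, topologicalKrullDim (closure ({η} : Set X)) = 1)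
    (ht : ∀ η ∈ t, topologicalKrullDim (closure ({η} : Set X)) = 1)
    (W : X.affineOpens) {ξ : X} (hξ : topologicalKrullDim (closure ({ξ} : Set X)) = 1) (hξW : ξ ∈ W.1)
    (h : ((s.map ptIdeal).prod).ideal W = ((t.map ptIdeal).prod).ideal W) : s.count ξ = t.count ξ := by
  haveI : IsNoetherian X := CohFound.isNoetherian_of_isProper (X ↘ Spec (CommRingCat.of k))
  have h1 := map_prod_ideal (k := k) hd W hξ hξW s hs
  rw [h, map_prod_ideal (k := k) hd W hξ hξW t ht] at h1
  have hdim : ringKrullDim (X.presheaf.stalk ξ) = (1 : ℕ) := by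
    have e := NumPoly18.ringKrullDim_stalk_of_sdim (k := k) hd ξ
    rw [NumPoly18.sdim_eq_one (k := k) hξ] at e
    revert e
    generalize ringKrullDim (X.presheaf.stalk ξ) = d
    intro e
    cases d with
    | bot => simp at e
    | coe d =>
      have e' : d + 1 = 2 := WithBot.coe_injective (by exact e)
      cases d using ENat.recTopCoe with
      | top => simp at e'
      | coe d =>
        have : d + 1 = 2 := ENat.natCast_inj.1 (by push_cast; exact e')
        obtain rfl : d = 1 := by omega
        rfl
  have hm0 : maximalIdeal (X.presheaf.stalk ξ) ≠ ⊥ := fun hb => by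
    have hf : IsField (X.presheaf.stalk ξ) := IsLocalRing.isField_iff_maximalIdeal_eq.2 hb
    rw [ringKrullDim_eq_zero_of_isField hf] at hdim
    norm_num at hdim
  have hlt : ∀ a b : ℕ, a < b → maximalIdeal (X.presheaf.stalk ξ) ^ a ≠ maximalIdeal (X.presheaf.stalk ξ) ^ b := by
    intro a b hab he
    have hle : maximalIdeal (X.presheaf.stalk ξ) ^ a ≤
        maximalIdeal (X.presheaf.stalk ξ) • (maximalIdeal (X.presheaf.stalk ξ) ^ a) := by
      rw [smul_eq_mul, ← pow_succ']
      exact he.le.trans (Ideal.pow_le_pow_right hab)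
    have h0 := Submodule.eq_bot_of_le_smul_of_le_jacobson_bot _ _ (IsNoetherian.noetherian _) hle
      (IsLocalRing.maximalIdeal_le_jacobson _)
    exact pow_ne_zero a hm0 h0
  rcases Nat.lt_trichotomy (s.count ξ) (t.count ξ) with hl | he | hl
  · exact absurd h1.symm (hlt _ _ hl)
  · exact he
  · exact absurd h1 (hlt _ _ hl)

end Groth.Agent.NumConn10

end
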