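import Groth.Agent.Lib.NumConn10.Main
import Groth.Agent.Lib.Wedge2.Exists
import Groth.Agent.Lib.SymSq10.Canon
import Groth.Agent.Lib.FormalH7.Power

/-!
# Artin's criterion for rational configurations of curves
-/

set_option autoImplicit false
set_option linter.style.haveILetI false
set_option linter.unusedSectionVars false
set_option maxHeartbeats 1000000
set_option backward.isDefEq.respectTransparency false
set_option backward.isDefEq.respectTransparency.types false

universe u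

open CategoryTheory CategoryTheory.Limits AlgebraicGeometry TopologicalSpace Opposite

noncomputable section

namespace Groth.Agent.NumConn10

open Groth.Agent.CurveCoh17 (stalkLin)
open Groth.Agent.NumPoly18 (ptIdeal isIntegral_pt)
open Groth.Agent.SymSq10 (sdot)
open Groth.Agent.SurfRR10 (ncl)
open Groth.Agent.HypSq10 (chi)

noncomputable local instance instLawRational (Y : Scheme.{u}) : PicGrp.Law Y := M2.law Y

variable {k : Type u} [Field k] [IsAlgClosed k] {X : Scheme.{u}} [X.Over (Spec (CommRingCat.of k))]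
  [IsProper (X ↘ Spec (CommRingCat.of k))] [Smooth (X ↘ Spec (CommRingCat.of k))] [IsIntegral X]
  (hdim : topologicalKrullDim X = 2)
include k hdim

theorem exists_canonical : ∃ W : X.Modules, ExtPow.IsExtPow 2 (Omega.sheaf (X ↘ Spec (CommRingCat.of k))) W := by
  haveI := SurfRR10.smoothRelDim (k := k) hdim
  haveI : Coh.IsQCoh (Omega.sheaf (X ↘ Spec (CommRingCat.of k))) :=
    (CurveCoh17.isCoh_of_ofRank (SymSq10.isFinLocFreeOfRank_omega 2 (X ↘ Spec (CommRingCat.of k)))).1
  exact ⟨_, Wedge2.isExtPow_extMod 2 _⟩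

/-- `H¹(O_C ⊗ M) = 0` on a curve with `χ(O_C) ≥ 1` for degree at least `-1`. -/
theorem subsingleton_h1_tw {ξ : X} (hξ : topologicalKrullDim (closure ({ξ} : Set X)) = 1)
    (hχ : 1 ≤ Curv2.euler k X (ClSub.quotMod (ptIdeal ξ))) {M : X.Modules} (hM : PicF.IsInvertible M)
    (hd : -1 ≤ sdot k (ncl (k := k) hdim hξ) (PicGrp.cls M hM)) :
    Subsingleton (Coh.HH X (tw (ptIdeal ξ) M) 1) := by
  haveI : IsNoetherian X := CohFound.isNoetherian_of_isProper (X ↘ Spec (CommRingCat.of k))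
  let ι := (ptIdeal ξ).subschemeι
  letI : (ptIdeal ξ).subscheme.Over (Spec (CommRingCat.of k)) := ⟨ι ≫ (X ↘ Spec (CommRingCat.of k))⟩
  haveI : IsProper ((ptIdeal ξ).subscheme ↘ Spec (CommRingCat.of k)) :=
    inferInstanceAs (IsProper (ι ≫ (X ↘ Spec (CommRingCat.of k))))
  haveI := (isIntegral_pt ξ).1
  haveI : IsNoetherian (ptIdeal ξ).subscheme :=
    CohFound.isNoetherian_of_isProper ((ptIdeal ξ).subscheme ↘ Spec (CommRingCat.of k))
  have hd1 : topologicalKrullDim (ptIdeal ξ).subscheme ≤ 1 :=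
    ((AmpleFin18.dim_subscheme _ (Scheme.IdealSheafData.coe_support_vanishingIdeal _)).trans hξ).le
  obtain ⟨M', hM', ⟨eM⟩⟩ := M2.exists_inverse hM
  let N := (Scheme.Modules.pullback ι).obj M
  have hN : PicF.IsInvertible N := PicLoc.isInvertible_pullback ι hM
  have hNc := CurveCoh17.isCoh_of_ofRank ((M2.isInvertible_iff_isFinLocFreeOfRank_one N).1 hN)
  let j : tw (ptIdeal ξ) M ≅ (Scheme.Modules.pushforward ι).obj N :=
    (Kunneth22.projIso ι eM).app (Coh.structureModule _) ≪≫ (Scheme.Modules.pushforward ι).mapIso (M2.tensorLUnit _)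
  obtain ⟨e⟩ := AmpleFin18.nonempty_HH_push (k := k) ι rfl N hNc.1 1
  have hdeg : sdot k (ncl (k := k) hdim hξ) (PicGrp.cls M hM) = Curv2.deg k (ptIdeal ξ).subscheme N 1 := by
    rw [← SurfRR10.cdeg_quot (k := k) hdim hξ hM, Curv2.deg, Nat.cast_one, one_mul,
      CurveCoh17.euler_iso (show CohB1.tensorMod (ClSub.quotMod (ptIdeal ξ)) M ≅ _ from j),
      AmpleFin18.euler_push ι rfl _ (M1.isCoh_structureModule _).1, AmpleFin18.euler_push ι rfl _ hNc.1]
  have hX := CurveAmple18.curveLike k (ptIdeal ξ).subscheme hd1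
  have h0 := SurfRR10.finrank_h0_eq_one (k := k) (X := (ptIdeal ξ).subscheme)
  have hg : (Curv2.genus k (ptIdeal ξ).subscheme : ℤ) ≤ 0 := by
    rw [AmpleFin18.euler_push ι rfl _ (M1.isCoh_structureModule _).1, hX.euler_structureModule, h0] at hχ
    omega
  haveI := hX.h1_subsingleton_of_deg (CurveCoh17.rkOne_of_invertible hd1 hN) h0 (by omega)
  exact ((CurveCoh17.hequiv k j 1).trans e).toEquiv.subsingleton

theorem cls_unit_eq_one (hO : PicF.IsInvertible (Coh.structureModule X)) :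
    PicGrp.cls (Coh.structureModule X) hO = (1 : PicLoc.PicSet X) :=
  PicGrp.cls_structureModule_eq_one ..

theorem pt_ne_top {ξ : X} : ptIdeal ξ ≠ ⊤ := fun e => by
  have hm : ξ ∈ ((ptIdeal ξ).support : Set X) := by
    rw [Scheme.IdealSheafData.coe_support_vanishingIdeal]
    exact subset_closure rfl
  rw [e] at hm
  simp at hm

/-- All subdivisors having `χ ≥ 1` gives vanishing of `H¹` for nonnegative twists. -/
theorem subsingleton_h1_twist (Z : X.IdealSheafData) (hZ : BlowUp.IsEffCartierIdeal Z) (hne : Z ≠ ⊤)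
    (hall : ∀ D J : X.IdealSheafData, BlowUp.IsEffCartierIdeal D → BlowUp.IsEffCartierIdeal J → D ≠ ⊤ → Z = D * J →
      1 ≤ Curv2.euler k X (ClSub.quotMod D))
    {M : X.Modules} (hM : PicF.IsInvertible M)
    (hdeg : ∀ (ξ : X) (hξ : topologicalKrullDim (closure ({ξ} : Set X)) = 1), Z ≤ ptIdeal ξ →
      0 ≤ sdot k (ncl (k := k) hdim hξ) (PicGrp.cls M hM)) :
    Subsingleton (Coh.HH X (tw Z M) 1) := by
  haveI : IsNoetherian X := CohFound.isNoetherian_of_isProper (X ↘ Spec (CommRingCat.of k))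
  haveI := SecDiv.wellFoundedGT (X := X)
  induction Z using (wellFounded_gt (α := X.IdealSheafData)).induction with
  | _ Z ih =>
    obtain ⟨W, hW⟩ := exists_canonical (k := k) hdim
    have hWi := SurfRR10.isInvertible_canonical hdim hW
    have htop : BlowUp.IsEffCartierIdeal (⊤ : X.IdealSheafData) :=
      EffCartier.isEffCartierIdeal_of_mul_right (show BlowUp.IsEffCartierIdeal (Z * ⊤) by rwa [SecDiv.mul_top'])
    have hχZ := hall Z ⊤ hZ htop hne (SecDiv.mul_top' Z).symm
    obtain ⟨ξ, hξ, hle, hneg⟩ : ∃ (ξ : X) (hξ : topologicalKrullDim (closure ({ξ} : Set X)) = 1), Z ≤ ptIdeal ξ ∧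
        sdot k (ncl (k := k) hdim hξ) ((icl hZ)⁻¹ * PicGrp.cls W hWi) < 0 := by
      by_contra hcon
      push Not at hcon
      have h := sdot_icl_nonpos (k := k) hdim ((icl hZ)⁻¹ * PicGrp.cls W hWi) Z hZ fun ξ hξ hl => hcon ξ hξ hl
      rw [SymSq10.sdot_mul (k := k) (SurfRR10.dim_eq (k := k) hdim).le, SurfRR10.sdot_inv_left (k := k) hdim,
        SymSq10.sdot_comm (PicGrp.cls W hWi)] at h
      have he : sdot k (icl hZ) (icl hZ) - sdot k (icl hZ) (PicGrp.cls W hWi) = -2 * Curv2.euler k X (ClSub.quotMod Z) :=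
        SurfRR10.adjunction hdim hW hWi hZ
      omega
    have hC := cartier_pt (k := k) hdim hξ
    obtain ⟨K, r, hK, hmul, hZK, -, -⟩ := exists_split hZ hC hle
    have hχC := hall (ptIdeal ξ) K hC hK (pt_ne_top (k := k) hdim) (by rw [← hmul, mul_comm])
    have hX₁ : Subsingleton (Coh.HH X (tw (ptIdeal ξ) (CohB1.tensorMod (ClSub.idealMod K) M)) 1) := by
      refine subsingleton_h1_tw (k := k) hdim hξ hχC (M2.isInvertible_tensor (M2.isInvertible_idealMod K hK) hM) ?_
      obtain ⟨g, hg, hgχ, -⟩ := SurfRR10.exists_genus hdim hW hWi hξ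
      have hmulc := icl_mul hK hC (by rw [hmul]; exact hZ)
      rw [icl_congr (by rw [hmul]; exact hZ) hZ hmul, icl_pt (k := k) hdim hξ] at hmulc
      rw [hmulc, mul_inv, inv_inv, SurfRR10.sdot_mul_right (k := k) hdim, SurfRR10.sdot_mul_right (k := k) hdim,
        SurfRR10.sdot_inv_right (k := k) hdim] at hneg
      rw [← AlgEquiv22.cls_tensor (M2.isInvertible_idealMod K hK) hM, SurfRR10.sdot_mul_right (k := k) hdim]
      have := hdeg ξ hξ hle
      show -1 ≤ sdot k (ncl (k := k) hdim hξ) (icl hK) + _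
      omega
    by_cases hKt : K = ⊤
    · subst hKt
      have hq : Z = ptIdeal ξ := by rw [← hmul, mul_comm]; exact SecDiv.mul_top' _
      subst hq
      exact subsingleton_h1_tw (k := k) hdim hξ hχC hM (by linarith [hdeg ξ hξ hle])
    · have hX₃ : Subsingleton (Coh.HH X (tw K M) 1) :=
        ih K (lt_of_split (k := k) hdim hξ hZ hK hmul hZK) hK hKt (fun D J hD hJ hDne hKD =>
          hall D (J * ptIdeal ξ) hD (EffCartier.isEffCartierIdeal_mul hJ hC) hDne (by rw [← hmul, hKD, mul_assoc]))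
          fun η hη hl => hdeg η hη (hZK.trans hl)
      obtain ⟨S, hS, ⟨e₁⟩, e₂, e₃, π, -, -, -⟩ := ArInter.exists_quot_ses hC hK
      have hT := CurveCoh17.shortExact_tensorR hS M fun x =>
        Module.Flat.of_linearEquiv (CurveCoh17.nonempty_stalk_equiv ((M2.isInvertible_iff_isFinLocFreeOfRank_one M).1 hM) x).some
      haveI : Subsingleton (Coh.HH X (S.map (M2.tensorR M)).X₁ 1) :=
        (CurveCoh17.hequiv k ((M2.tensorR M).mapIso (e₁ ≪≫ M2.tensorComm _ _) ≪≫ M2.tensorAssoc _ _ _) 1).toEquiv.subsingleton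
      haveI : Subsingleton (Coh.HH X (S.map (M2.tensorR M)).X₃ 1) :=
        @Equiv.subsingleton _ _ (CurveCoh17.hequiv k ((M2.tensorR M).mapIso e₃) 1).toEquiv hX₃
      haveI : Subsingleton (Coh.HH X (S.map (M2.tensorR M)).X₂ 1) := subsingleton_of_forall_eq 0 fun x => by
        obtain ⟨y, rfl⟩ := (CurveCoh17.exact_hmap_hmap k hT 1 x).1 (Subsingleton.elim _ _)
        rw [Subsingleton.elim y 0, map_zero]
      exact @Equiv.subsingleton _ _
        (CurveCoh17.hequiv k ((M2.tensorR M).mapIso (e₂ ≪≫ eqToIso (by rw [mul_comm, hmul]))) 1).symm.toEquiv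
        ‹Subsingleton (Coh.HH X (S.map (M2.tensorR M)).X₂ 1)›

theorem subsingleton_h2 {M : X.Modules} (hM : Coh.IsCoh M)
    (hs : topologicalKrullDim (CohB1.support M) ≤ ((1 : ℕ) : WithBot ℕ∞)) : Subsingleton (Coh.HH X M 2) :=
  NumPoly18.subsingleton_HH_of_support (k := k) hM hs one_lt_two

theorem dim_support_divisor {D : X.IdealSheafData} (hD : BlowUp.IsEffCartierIdeal D) :
    topologicalKrullDim (D.support : Set X) ≤ ((1 : ℕ) : WithBot ℕ∞) := by
  haveI : IsNoetherian X := CohFound.isNoetherian_of_isProper (X ↘ Spec (CommRingCat.of k))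
  exact NumPoly18.dim_support_effCartier hD (e := 1) (SurfRR10.dim_eq (k := k) hdim).le

theorem dim_support_tw {Z : X.IdealSheafData} (hZ : BlowUp.IsEffCartierIdeal Z) {M : X.Modules}
    (hM : PicF.IsInvertible M) :
    topologicalKrullDim (CohB1.support (tw Z M)) ≤ ((1 : ℕ) : WithBot ℕ∞) := by
  have hsub : CohB1.support (tw Z M) ⊆ (Z.support : Set X) := fun x hx => by
    by_contra hxZ
    exact hx (subsingleton_stalk Z hM hxZ)
  exact Snapper.dim_le_of_subset hsub (dim_support_divisor (k := k) hdim hZ)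

theorem isCoh_tw (Z : X.IdealSheafData) {M : X.Modules} (hM : PicF.IsInvertible M) : Coh.IsCoh (tw Z M) := by
  haveI : IsNoetherian X := CohFound.isNoetherian_of_isProper (X ↘ Spec (CommRingCat.of k))
  exact CurveCoh17.isCoh_tensor (CurveCoh17.isCoh_quotMod Z) (Snapper.isCoh_of_isInvertible hM)

/-- `χ` of a twist by invertible modules. -/
theorem euler_tw {Z : X.IdealSheafData} (hZ : BlowUp.IsEffCartierIdeal Z) {M : X.Modules} (hM : PicF.IsInvertible M) :
    Curv2.euler k X (tw Z M) = Curv2.euler k X (ClSub.quotMod Z) - sdot k (icl hZ) (PicGrp.cls M hM) := by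
  haveI : IsNoetherian X := CohFound.isNoetherian_of_isProper (X ↘ Spec (CommRingCat.of k))
  have hIi := M2.isInvertible_idealMod Z hZ
  have hi := M2.isInvertible_tensor hIi hM
  have h := ChiTwist22.euler_add_coh (k := k) (CurveCoh17.twistSES hM Z) (Snapper.isCoh_of_isInvertible hi)
    (CohFound.isCoh_of_iso (M2.tensorLUnit M).symm (Snapper.isCoh_of_isInvertible hM)) (isCoh_tw (k := k) hdim Z hM)
  simp only [ShortComplex.map_X₁, ShortComplex.map_X₂, ShortComplex.map_X₃] at h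
  rw [CurveCoh17.euler_iso (show (M2.tensorR M).obj (Coh.structureModule X) ≅ M from M2.tensorLUnit M),
    HypSq10.euler_eq_chi hM, HypSq10.euler_eq_chi (show PicF.IsInvertible ((M2.tensorR M).obj (ClSub.idealMod Z)) from hi),
    show PicGrp.cls ((M2.tensorR M).obj (ClSub.idealMod Z)) hi = icl hZ * PicGrp.cls M hM from
      (AlgEquiv22.cls_tensor hIi hM).symm] at h
  have h' : chi k (PicGrp.cls M hM) = chi k (icl hZ * PicGrp.cls M hM) + Curv2.euler k X (tw Z M) := h
  rw [SurfRR10.euler_quot (k := k) hdim hZ, sdot]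
  have hrfl : icl hZ = PicGrp.cls (ClSub.idealMod Z) hIi := rfl
  rw [hrfl] at h' ⊢
  linarith

theorem surjective_h1 {Z : X.IdealSheafData} (D J : X.IdealSheafData) (hD : BlowUp.IsEffCartierIdeal D)
    (hJ : BlowUp.IsEffCartierIdeal J) (h : Z = D * J) (hsub : Subsingleton (Coh.HH X (ClSub.quotMod Z) 1)) :
    Subsingleton (Coh.HH X (ClSub.quotMod D) 1) := by
  subst h
  haveI : IsNoetherian X := CohFound.isNoetherian_of_isProper (X ↘ Spec (CommRingCat.of k))
  obtain ⟨S, hS, ⟨e₁⟩, e₂, e₃, π, -, -, -⟩ := ArInter.exists_quot_ses hJ hD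
  haveI := subsingleton_h2 (k := k) hdim (isCoh_tw (k := k) hdim J (M2.isInvertible_idealMod D hD))
    (dim_support_tw (k := k) hdim hJ (M2.isInvertible_idealMod D hD))
  haveI : Subsingleton (Coh.HH X S.X₁ (1 + 1)) :=
    (CurveCoh17.hequiv k (e₁ ≪≫ M2.tensorComm _ _) (1 + 1)).toEquiv.subsingleton
  haveI : Subsingleton (Coh.HH X S.X₂ 1) :=
    (CurveCoh17.hequiv k (e₂ ≪≫ eqToIso (by rw [mul_comm])) 1).toEquiv.subsingleton
  haveI : Subsingleton (Coh.HH X S.X₃ 1) := subsingleton_of_forall_eq 0 fun x => by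
    obtain ⟨y, rfl⟩ := (CurveCoh17.exact_hmap_hdelta k hS 1 x).1 (Subsingleton.elim _ _)
    rw [Subsingleton.elim y 0, map_zero]
  exact (CurveCoh17.hequiv k e₃ 1).symm.toEquiv.subsingleton

theorem one_le_euler_of_h1 {D : X.IdealSheafData} (hD : BlowUp.IsEffCartierIdeal D) (hne : D ≠ ⊤)
    (h : Subsingleton (Coh.HH X (ClSub.quotMod D) 1)) :
    1 ≤ Curv2.euler k X (ClSub.quotMod D) ∧
      Curv2.euler k X (ClSub.quotMod D) = Module.finrank k (Coh.HH X (ClSub.quotMod D) 0) := by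
  haveI : IsNoetherian X := CohFound.isNoetherian_of_isProper (X ↘ Spec (CommRingCat.of k))
  haveI := h
  haveI : Module.Finite k (Coh.HH X (ClSub.quotMod D) 0) :=
    CohFound.finite_HH_of_isProper _ (CurveCoh17.isCoh_quotMod D) 0
  have hd1 : topologicalKrullDim (CohB1.support (ClSub.quotMod D)) ≤ ((1 : ℕ) : WithBot ℕ∞) := by
    rw [NumPoly18.support_quotMod]
    exact dim_support_divisor (k := k) hdim hD
  have he : Curv2.euler k X (ClSub.quotMod D) = Module.finrank k (Coh.HH X (ClSub.quotMod D) 0) := by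
    rw [Curv2.euler, finsum_eq_finsetSum_of_support_subset (s := Finset.range 2)]
    · rw [Finset.sum_range_succ, Finset.sum_range_one,
        Module.finrank_zero_of_subsingleton (R := k) (M := Coh.HH X (ClSub.quotMod D) 1)]
      ring
    · intro i hi
      simp only [Finset.coe_range, Set.mem_Iio]
      by_contra hlt
      haveI := NumPoly18.subsingleton_HH_of_support (k := k) (CurveCoh17.isCoh_quotMod D) hd1 (show 1 < i by omega)
      exact hi (by simp [Module.finrank_zero_of_subsingleton])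
  refine ⟨?_, he⟩
  rw [he]
  suffices 0 < Module.finrank k (Coh.HH X (ClSub.quotMod D) 0) by omega
  rw [Module.finrank_pos_iff]
  by_contra hnt
  rw [not_nontrivial_iff_subsingleton] at hnt
  have h2 : (ClSub.toSubscheme D).app ⊤ (M1.one ⊤) = 0 :=
    (CurveCoh17.hh0 (ClSub.quotMod D)).symm.injective (Subsingleton.elim _ _)
  refine hne ((Scheme.IdealSheafData.support_eq_bot_iff D).1 (SetLike.coe_injective
    (Set.eq_empty_of_forall_notMem fun x hx => ?_)))
  have h3 : stalkLin (ClSub.toSubscheme D) x (oneAt x) = 0 := by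
    show (M1.stalkAb x).map (ClSub.toSubscheme D) ((Coh.structureModule X).presheaf.germ ⊤ x trivial (M1.one ⊤)) = 0
    rw [M1.germ_naturality, h2, map_zero]
  rw [← NumPoly18.support_quotMod] at hx
  refine hx (subsingleton_of_forall_eq 0 fun y => ?_)
  obtain ⟨b, rfl⟩ := surjective_toSubscheme D x y
  obtain ⟨c, rfl⟩ := exists_smul_one x b
  rw [map_smul, h3, smul_zero]

/-- Distinct curves meet nonnegatively. -/
theorem ncl_nonneg {η ξ : X} (hη : topologicalKrullDim (closure ({η} : Set X)) = 1)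
    (hξ : topologicalKrullDim (closure ({ξ} : Set X)) = 1) (hne : η ≠ ξ) :
    0 ≤ sdot k (ncl (k := k) hdim hη) (ncl (k := k) hdim hξ) := by
  obtain ⟨M, hM, φ, hc, hg⟩ := Goodman10.exists_curve_sec (k := k) (SurfRR10.regular (k := k)) (SurfRR10.dim_eq (k := k) hdim) hξ
  have hnot : ¬ ξ ⤳ η := fun h => by
    have h1 := VarDim.sdim_lt_of_specializes (X ↘ Spec (CommRingCat.of k)) h hne.symm
    rw [NumPoly18.sdim_eq_one (k := k) hη, NumPoly18.sdim_eq_one (k := k) hξ] at h1
    exact lt_irrefl _ h1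
  have h := (Goodman10.sdot_of_section (k := k) (SurfRR10.regular (k := k)) (SurfRR10.dim_eq (k := k) hdim) hη hM φ
    ((hg η).2 hnot)).1
  rw [hc] at h
  exact h

/-- A curve which is no component meets a divisor nonnegatively. -/
theorem sdot_icl_of_not_le {K : X.IdealSheafData} (hK : BlowUp.IsEffCartierIdeal K) {η : X}
    (hη : topologicalKrullDim (closure ({η} : Set X)) = 1) (hnle : ¬ K ≤ ptIdeal η) :
    sdot k (ncl (k := k) hdim hη) (icl hK) ≤ 0 :=
  sdot_icl_nonpos (k := k) hdim _ K hK fun ξ hξ hl => by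
    rw [SymSq10.sdot_comm]
    exact ncl_nonneg (k := k) hdim hη hξ fun e => hnle (by subst e; exact hl)

section Config

variable {r : ℕ} {C : Fin r → X.IdealSheafData} {η : Fin r → X}
  (hη : ∀ i, topologicalKrullDim (closure ({η i} : Set X)) = 1) (hC : ∀ i, C i = ptIdeal (η i))
include hη hC

theorem mem_iff (i : Fin r) (x : X) : x ∈ ((C i).support : Set X) ↔ η i ⤳ x := by
  rw [hC i, Scheme.IdealSheafData.coe_support_vanishingIdeal]
  exact specializes_iff_mem_closure.symm

theorem curve_mem {ξ : X} (hξ : topologicalKrullDim (closure ({ξ} : Set X)) = 1) {D : X.IdealSheafData}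
    (hDs : (D.support : Set X) ⊆ ⋃ i, ((C i).support : Set X)) (hle : D ≤ ptIdeal ξ) : ∃ i, ξ = η i := by
  have hm : ξ ∈ (D.support : Set X) := by
    refine (Scheme.IdealSheafData.support_antitone hle) ?_
    show ξ ∈ ((ptIdeal ξ).support : Set X)
    rw [Scheme.IdealSheafData.coe_support_vanishingIdeal]
    exact subset_closure rfl
  obtain ⟨i, hi⟩ := Set.mem_iUnion.1 (hDs hm)
  refine ⟨i, by_contra fun hne => ?_⟩
  have h1 := VarDim.sdim_lt_of_specializes (X ↘ Spec (CommRingCat.of k)) ((mem_iff (k := k) hdim hη hC i ξ).1 hi) (Ne.symm hne)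
  rw [NumPoly18.sdim_eq_one (k := k) hξ, NumPoly18.sdim_eq_one (k := k) (hη i)] at h1
  exact lt_irrefl _ h1

variable {Z₀ : X.IdealSheafData} (hZ₀ : BlowUp.IsEffCartierIdeal Z₀) (hne : Z₀ ≠ ⊤)
  (hs : (Z₀.support : Set X) ⊆ ⋃ i, ((C i).support : Set X))
  (hpos : ∀ i, 0 ≤ sdot k (ncl (k := k) hdim (hη i)) (icl hZ₀))
  (hmin : ∀ (J : X.IdealSheafData) (hJ : BlowUp.IsEffCartierIdeal J), J ≠ ⊤ →
    (J.support : Set X) ⊆ ⋃ i, ((C i).support : Set X) →
    (∀ i, 0 ≤ sdot k (ncl (k := k) hdim (hη i)) (icl hJ)) → J ≤ Z₀)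
include hZ₀ hne hs hpos hmin

/-- The fundamental cycle has only the constants as functions. -/
theorem finrank_h0_fundamental : Module.finrank k (Coh.HH X (ClSub.quotMod Z₀) 0) ≤ 1 := by
  haveI : IsNoetherian X := CohFound.isNoetherian_of_isProper (X ↘ Spec (CommRingCat.of k))
  have hO := PicLoc.isInvertible_structureModule X
  obtain ⟨ξ, hξ, hle⟩ := exists_curve_le (k := k) hdim hZ₀ hne
  obtain ⟨K', ρ, -, -, -, hρ, -⟩ := exists_split hZ₀ (cartier_pt (k := k) hdim hξ) hle
  obtain ⟨hfin, hle1⟩ := finrank_sec_le_one (k := k) hdim hξ hO (by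
    rw [cls_unit_eq_one (k := k) hdim hO, SymSq10.sdot_comm, SymSq10.sdot_one_left])
  haveI := hfin
  have key : ∀ τ : Coh.structureModule X ⟶ tw Z₀ (Coh.structureModule X), τ ≫ twMap ρ _ = 0 → τ = 0 := by
    intro τ h0
    by_contra hτ
    obtain ⟨J, K, hJ, hK, hm, hKne, hZK, hdegJ, htop⟩ := exists_peel (k := k) hdim Z₀ hZ₀ _ hO τ hτ
    by_cases hJt : J = ⊤
    · exact htop hJt ξ hξ hle ρ hρ h0
    have hJZ : Z₀ ≤ J := by
      rw [← hm]
      exact fun U => by
        rw [Scheme.IdealSheafData.ideal_mul, Pi.mul_apply]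
        exact Ideal.mul_le.2 fun a ha b _ => Ideal.mul_mem_right b _ ha
    have hJs : (J.support : Set X) ⊆ ⋃ i, ((C i).support : Set X) :=
      (show (J.support : Set X) ⊆ Z₀.support from Scheme.IdealSheafData.support_antitone hJZ).trans hs
    have hJi : ∀ i, 0 ≤ sdot k (ncl (k := k) hdim (hη i)) (icl hJ) := fun i => by
      by_cases hKi : K ≤ ptIdeal (η i)
      · have h1 := hdegJ (η i) (hη i) hKi
        rwa [cls_unit_eq_one (k := k) hdim hO, mul_one] at h1
      · have h1 := sdot_icl_of_not_le (k := k) hdim hK (hη i) hKi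
        have h2 := hpos i
        rw [icl_congr hZ₀ (EffCartier.isEffCartierIdeal_mul hJ hK) hm.symm, icl_mul hJ hK,
          SurfRR10.sdot_mul_right (k := k) hdim] at h2
        omega
    have hJeq : J = Z₀ := le_antisymm (hmin J hJ hJt hJs hJi) hJZ
    refine hKne (EffCartier.eq_of_mul_eq_mul_right hJ ?_)
    rw [mul_comm, hm, mul_comm, SecDiv.mul_top', hJeq]
  have h1 := LinearMap.finrank_le_finrank_of_injective (f := CurveCoh17.hmap k (twMap ρ (Coh.structureModule X)) 0)
    (secHom_hh0_eq_zero (k := k) (twMap ρ _) key)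
  rw [(CurveCoh17.hequiv k (show tw Z₀ (Coh.structureModule X) ≅ ClSub.quotMod Z₀ from M2.tensorRUnit _) 0).finrank_eq] at h1
  exact h1.trans hle1

/-- `χ(O_{Z₀}) = 1` gives `H¹(O_{Z₀}) = 0` and hence its vanishing on all subdivisors. -/
theorem h1_fundamental (hχ : Curv2.euler k X (ClSub.quotMod Z₀) = 1) :
    Subsingleton (Coh.HH X (ClSub.quotMod Z₀) 1) := by
  haveI : IsNoetherian X := CohFound.isNoetherian_of_isProper (X ↘ Spec (CommRingCat.of k))
  have h0 := finrank_h0_fundamental (k := k) hdim hη hC hZ₀ hne hs hpos hmin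
  haveI : Module.Finite k (Coh.HH X (ClSub.quotMod Z₀) 1) :=
    CohFound.finite_HH_of_isProper _ (CurveCoh17.isCoh_quotMod Z₀) 1
  have hd1 : topologicalKrullDim (CohB1.support (ClSub.quotMod Z₀)) ≤ ((1 : ℕ) : WithBot ℕ∞) := by
    rw [NumPoly18.support_quotMod]
    exact dim_support_divisor (k := k) hdim hZ₀
  rw [Curv2.euler, finsum_eq_finsetSum_of_support_subset (s := Finset.range 2)] at hχ
  · rw [Finset.sum_range_succ, Finset.sum_range_one] at hχ
    have : Module.finrank k (Coh.HH X (ClSub.quotMod Z₀) 1) = 0 := by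
      push_cast at hχ
      omega
    exact Module.finrank_zero_iff.1 this
  · intro i hi
    simp only [Finset.coe_range, Set.mem_Iio]
    by_contra hlt
    haveI := NumPoly18.subsingleton_HH_of_support (k := k) (CurveCoh17.isCoh_quotMod Z₀) hd1 (show 1 < i by omega)
    exact hi (by simp [Module.finrank_zero_of_subsingleton])

/-- `H¹(O_{Z₀} ⊗ I^N) = 0`. -/
theorem h1_twist (hh : Subsingleton (Coh.HH X (ClSub.quotMod Z₀) 1)) {M : X.Modules} (hM : PicF.IsInvertible M)
    {N : ℕ} (hMc : PicGrp.cls M hM = icl hZ₀ ^ N) : Subsingleton (Coh.HH X (tw Z₀ M) 1) := by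
  refine subsingleton_h1_twist (k := k) hdim Z₀ hZ₀ hne (fun D J hD hJ hDne hm =>
    (one_le_euler_of_h1 (k := k) hdim hD hDne (surjective_h1 (k := k) hdim D J hD hJ hm hh)).1) hM
    fun ξ hξ hl => ?_
  obtain ⟨i, rfl⟩ := curve_mem (k := k) hdim hη hC hξ hs hl
  rw [hMc, SymSq10.sdot_comm, SurfRR10.sdot_pow_left (k := k) hdim, SymSq10.sdot_comm]
  exact mul_nonneg (Int.natCast_nonneg N) (hpos i)

variable (hconn : ∀ S : Finset (Fin r), S.Nonempty → Sᶜ.Nonempty →
  ∃ i ∈ S, ∃ j ∈ Sᶜ, sdot k (ncl (k := k) hdim (hη i)) (ncl (k := k) hdim (hη j)) ≠ 0) (hinj : Function.Injective η)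
include hconn hinj

/-- The fundamental cycle contains every curve. -/
theorem le_pt (j : Fin r) : Z₀ ≤ ptIdeal (η j) := by
  classical
  haveI : IsNoetherian X := CohFound.isNoetherian_of_isProper (X ↘ Spec (CommRingCat.of k))
  by_contra hj
  obtain ⟨ξ, hξ, hle⟩ := exists_curve_le (k := k) hdim hZ₀ hne
  obtain ⟨i₀, rfl⟩ := curve_mem (k := k) hdim hη hC hξ hs hle
  obtain ⟨i, hi, l, hl, hij⟩ := hconn (Finset.univ.filter fun i => Z₀ ≤ ptIdeal (η i))
    ⟨i₀, Finset.mem_filter.2 ⟨Finset.mem_univ _, hle⟩⟩ ⟨j, by simp [hj]⟩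
  rw [Finset.mem_filter] at hi
  have hl' : ¬ Z₀ ≤ ptIdeal (η l) := by simpa using hl
  have hne' : η l ≠ η i := fun e => hl' (e ▸ hi.2)
  obtain ⟨K, ρ, hK, hmul, hZK, -, -⟩ := exists_split hZ₀ (cartier_pt (k := k) hdim (hη i)) hi.2
  have h1 := icl_mul hK (cartier_pt (k := k) hdim (hη i)) (by rw [hmul]; exact hZ₀)
  rw [icl_congr (by rw [hmul]; exact hZ₀) hZ₀ hmul, icl_pt (k := k) hdim (hη i)] at h1
  have h2 := hpos l
  rw [h1, SurfRR10.sdot_mul_right (k := k) hdim, SurfRR10.sdot_inv_right (k := k) hdim] at h2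
  have h3 := sdot_icl_of_not_le (k := k) hdim hK (hη l) fun h => hl' (hZK.trans h)
  have h4 := ncl_nonneg (k := k) hdim (hη l) (hη i) hne'
  rw [SymSq10.sdot_comm] at hij
  omega

/-- Artin: `χ(O_{Z₀}) = 1` forces `H¹(O_Z) = 0` on the configuration. -/
theorem h1_of_support (hχ : Curv2.euler k X (ClSub.quotMod Z₀) = 1) {Z : X.IdealSheafData}
    (hZ : BlowUp.IsEffCartierIdeal Z) (hZs : (Z.support : Set X) ⊆ ⋃ i, ((C i).support : Set X)) :
    Subsingleton (Coh.HH X (ClSub.quotMod Z) 1) := by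
  haveI : IsNoetherian X := CohFound.isNoetherian_of_isProper (X ↘ Spec (CommRingCat.of k))
  have hh := h1_fundamental (k := k) hdim hη hC hZ₀ hne hs hpos hmin hχ
  have hpow : ∀ n : ℕ, ∃ h : BlowUp.IsEffCartierIdeal (Z₀ ^ (n + 1)), icl h = icl hZ₀ ^ (n + 1) ∧
      Subsingleton (Coh.HH X (ClSub.quotMod (Z₀ ^ (n + 1))) 1) := by
    intro n
    induction n with
    | zero =>
      rw [pow_one]
      exact ⟨hZ₀, (pow_one _).symm, hh⟩
    | succ n ih =>
      obtain ⟨hp, hpc, hps⟩ := ih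
      rw [pow_succ Z₀ (n + 1)]
      have hp' := EffCartier.isEffCartierIdeal_mul hp hZ₀
      refine ⟨hp', by rw [icl_mul hp hZ₀, hpc, ← pow_succ], ?_⟩
      obtain ⟨S, hS, ⟨e₁⟩, e₂, e₃, π, -, -, -⟩ := ArInter.exists_quot_ses hZ₀ hp
      have hMi := M2.isInvertible_idealMod _ hp
      haveI := h1_twist (k := k) hdim hη hC hZ₀ hne hs hpos hmin hh hMi hpc
      haveI : Subsingleton (Coh.HH X S.X₁ 1) :=
        (CurveCoh17.hequiv k (e₁ ≪≫ M2.tensorComm _ _) 1).toEquiv.subsingleton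
      haveI : Subsingleton (Coh.HH X S.X₃ 1) := (CurveCoh17.hequiv k e₃ 1).toEquiv.subsingleton
      haveI : Subsingleton (Coh.HH X S.X₂ 1) := subsingleton_of_forall_eq 0 fun x => by
        obtain ⟨y, rfl⟩ := (CurveCoh17.exact_hmap_hmap k hS 1 x).1 (Subsingleton.elim _ _)
        rw [Subsingleton.elim y 0, map_zero]
      exact (CurveCoh17.hequiv k (e₂ ≪≫ eqToIso (by rw [mul_comm])) 1).symm.toEquiv.subsingleton
  have hsupp : (Z.support : Set X) ⊆ Z₀.support := fun x hx => by
    obtain ⟨i, hi⟩ := Set.mem_iUnion.1 (hZs hx)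
    rw [hC i] at hi
    exact Scheme.IdealSheafData.support_antitone (le_pt (k := k) hdim hη hC hZ₀ hne hs hpos hmin hconn hinj i) hi
  obtain ⟨n, hn⟩ := FormalH7.exists_pow_le_of_support_le Z₀ Z hsupp
  obtain ⟨hp, -, hps⟩ := hpow n
  have hcol := EffCartier.colon_mul hZ hn
  exact surjective_h1 (k := k) hdim Z _ hZ
    (EffCartier.isEffCartierIdeal_of_mul_left (show BlowUp.IsEffCartierIdeal (EffCartier.colon (Z₀ ^ (n + 1)) hZ * Z) by
      rw [hcol]; exact hp)) ((mul_comm _ _).trans hcol).symm hps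

end Config

end Groth.Agent.NumConn10

end
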